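import Groth.Agent.L24.TorusField.Main
import Groth.Agent.L08.Borel.TorusLift

/-!
# Maximal subtori over a field are maximal tori
-/

set_option autoImplicit false
set_option backward.isDefEq.respectTransparency false
set_option backward.isDefEq.respectTransparency.types false
set_option linter.style.haveILetI false

universe u

open CategoryTheory CategoryTheory.Limits MonoidalCategory CartesianMonoidalCategory MonObj GrpObj AlgebraicGeometry

noncomputable section

namespace Groth.L24.TorusField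

variable {k : Type u} [Field k] {G T : Over (Spec (CommRingCat.of k))} [GrpObj G] [GrpObj T]

/-- a maximal torus is a maximal subtorus -/
theorem isMaxTorus_of_isMaximalTorus_field {i : T ⟶ G} (h : Red.IsMaximalTorus i) : AGF.IsMaxTorus i := by
  haveI := h.1; haveI := h.2.1
  refine ⟨h.1, h.2.1, h.2.2.1, fun T' _ j _ _ f hT' hf => ?_⟩
  obtain ⟨s⟩ : Nonempty ↥(Spec (CommRingCat.of k)) := inferInstance
  haveI : IsMonHom ((Over.pullback (Red.geomPt s)).map j) := Groth.L25.MonoClosed.isMonHom_pullbackMap _ _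
  haveI : Mono ((Over.pullback (Red.geomPt s)).map j) := Functor.map_mono _ _
  haveI : IsIso ((Over.pullback (Red.geomPt s)).map f) := h.2.2.2 s _ ((Over.pullback (Red.geomPt s)).map j) _
    (Groth.L25.Locus.isTorus_bc hT' (Red.geomPt s)) (by rw [← Functor.map_comp, hf])
  have key : ∀ (K : Type u) [Field K] (θ : Spec (CommRingCat.of K) ⟶ Spec (CommRingCat.of k)),
      IsIso ((Over.pullback θ).map f) → IsIso f := fun K _ θ hθ => by
    haveI := hθ
    exact Groth.L08.Borel.isIso_of_bc_field θ f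
  exact key _ (Red.geomPt s) this

/-- maximal tori are transported along isomorphisms of the torus -/
theorem isMaximalTorus_iso_comp {T' : Over (Spec (CommRingCat.of k))} [GrpObj T'] {i : T ⟶ G}
    (h : Red.IsMaximalTorus i) (w : T' ⟶ T) [IsMonHom w] [IsIso w] (hT' : Red.IsTorus T') :
    Red.IsMaximalTorus (w ≫ i) := by
  haveI := h.1; haveI := h.2.1
  refine ⟨inferInstance, mono_comp _ _, hT', fun s T₁ _ a _ _ f h₁ hf => ?_⟩
  let F := Over.pullback (Red.geomPt s)
  haveI : IsIso (F.map (inv w) ≫ f) := h.2.2.2 s T₁ a (F.map (inv w) ≫ f) h₁ (by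
    rw [Category.assoc, hf, ← Functor.map_comp, IsIso.inv_hom_id_assoc])
  exact IsIso.of_isIso_comp_left (F.map (inv w)) f

/-- every subtorus is contained in a maximal torus defined over the field -/
theorem exists_maximalTorus_containing [IsAffine G.left] [Smooth G.hom] (i : T ⟶ G) [IsMonHom i] [Mono i]
    (hT : Red.IsTorus T) :
    ∃ (T₂ : Over (Spec (CommRingCat.of k))) (_ : GrpObj T₂) (i₂ : T₂ ⟶ G) (w : T ⟶ T₂),
      Red.IsMaximalTorus i₂ ∧ w ≫ i₂ = i := by
  haveI := (Groth.L25.Locus.smooth_connected_torus hT).2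
  have hm := Groth.L25.Locus.isMultTypeFT_of_isTorus hT
  haveI : IsAffineHom G.hom := inferInstance
  obtain ⟨Z, gZ, z, hZ, hzc, hZs⟩ := Groth.Agent.S5247.result T G hm inferInstance inferInstance i
  haveI := hzc; haveI := hZs; haveI := hZ.1; haveI := hZ.2.1
  haveI : IsAffine Z.left := isAffine_of_isAffineHom z.left
  haveI : LocallyOfFiniteType Z.hom := inferInstance
  obtain ⟨C, gC, j, hj⟩ := Groth.L08.Chev.exists_idComp Z
  haveI := hj.hom; haveI := hj.closedImm; haveI := hj.openImm
  haveI := hj.smooth; haveI := hj.isAffine; haveI := hj.connectedSpace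
  haveI : Mono j := Groth.L08.mono_of_closedImmersion j
  haveI : IsAffineHom C.hom := inferInstance
  obtain ⟨T₂, g₂, i₂, h₂⟩ := exists_maximalTorus_connected C
  haveI := h₂.1; haveI := h₂.2.1
  obtain ⟨uZ, huZ⟩ := (hZ.2.2 T i).2 fun X' x h => by
    rw [← MonObj.mul_comp, ← MonObj.mul_comp, Groth.L25.Central.mul_comm_of_multTypeFT hm]
  haveI : IsMonHom uZ := Groth.L08.Borel.isMonHom_of_comp_mono uZ z i huZ
  obtain ⟨uC, huC⟩ := hj.exists_lift_hom uZ
  haveI : IsMonHom uC := Groth.L08.Borel.isMonHom_of_comp_mono uC j uZ huC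
  have hfull : uC ≫ j ≫ z = i := by rw [reassoc_of% huC, huZ]
  haveI : Mono (j ≫ z) := inferInstance
  obtain ⟨w, hw⟩ := Groth.Agent.S8398.result _ C isConnected_fibre T₂ i₂ h₂ T hm uC (fun X x g => by
    have e := (hZ.2.2 X (g ≫ j ≫ z)).1 ⟨g ≫ j, by rw [Category.assoc]⟩ X (𝟙 X) x
    rw [Category.id_comp] at e
    rw [← cancel_mono (j ≫ z), MonObj.mul_comp, MonObj.mul_comp, Category.assoc, hfull]
    exact e.symm)
  exact ⟨T₂, g₂, i₂ ≫ j ≫ z, w, isMaximalTorus_comp_centralizer hm hZ hj h₂, by rw [reassoc_of% hw, hfull]⟩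

/-- a maximal subtorus of an affine smooth group is a maximal torus -/
theorem isMaximalTorus_of_isMaxTorus_field [IsAffine G.left] [Smooth G.hom] {i : T ⟶ G} (h : AGF.IsMaxTorus i) :
    Red.IsMaximalTorus i := by
  haveI := h.1; haveI := h.2.1
  obtain ⟨T₂, g₂, i₂, w, h₂, hw⟩ := exists_maximalTorus_containing i h.2.2.1
  haveI := h₂.1; haveI := h₂.2.1
  haveI : IsIso w := h.2.2.2 T₂ i₂ w h₂.2.2.1 hw
  haveI : IsMonHom w := Groth.L08.Borel.isMonHom_of_comp_mono w i₂ i hw
  have := isMaximalTorus_iso_comp h₂ w h.2.2.1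
  rwa [hw] at this

/-- a smooth affine group over a field has a maximal torus -/
theorem exists_maximalTorus_affine (G : Over (Spec (CommRingCat.of k))) [GrpObj G] [IsAffine G.left] [Smooth G.hom] :
    Good G := by
  let B := MonoidAlgebra k (Multiplicative (Fin 0 → ℤ))
  have hb : ∀ x : B, algebraMap k B (Coalgebra.counit x) = x := fun x =>
    DFunLike.congr_fun (show (Algebra.ofId k B).comp (Bialgebra.counitAlgHom k B) = AlgHom.id k B from
      MonoidAlgebra.algHom_ext' (MonoidHom.ext fun m => by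
        obtain rfl : m = 1 := Subsingleton.elim _ _
        rw [map_one, map_one]) (Subsingleton.elim _ _)) x
  haveI : IsIso (CommRingCat.ofHom (algebraMap k B)) := (ConcreteCategory.isIso_iff_bijective _).2
    ⟨FaithfulSMul.algebraMap_injective k B, fun x => ⟨_, hb x⟩⟩
  haveI hiso : IsIso (Groth.L25.Bridge.P k B).hom := inferInstanceAs (IsIso (Spec.map (CommRingCat.ofHom (algebraMap k B))))
  have hT₀ : Red.IsTorus (Groth.L25.Bridge.P k B) := Groth.L25.TorLift.isTorus_of_iso (Groth.L25.Bridge.dsIso k (Fin 0 → ℤ))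
    (Groth.L08.Borel.isTorus_ds _ 0)
  have hsub : ∀ {X : Over (Spec (CommRingCat.of k))} (a b : X ⟶ Groth.L25.Bridge.P k B), a = b := fun a b =>
    Over.OverMorphism.ext (by rw [← cancel_mono (Groth.L25.Bridge.P k B).hom, Over.w, Over.w])
  have fin : ∀ (T₀ : Over (Spec (CommRingCat.of k))) [GrpObj T₀],
      (∀ {X : Over (Spec (CommRingCat.of k))} (a b : X ⟶ T₀), a = b) → Red.IsTorus T₀ → Good G := by
    intro T₀ _ hs ht
    haveI : IsMonHom (1 : T₀ ⟶ G) := Groth.L25.Bridge.isMonHom_of_mul _ fun X a b => by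
      rw [MonObj.comp_one, MonObj.comp_one, MonObj.comp_one, _root_.one_mul]
    haveI : Mono (1 : T₀ ⟶ G) := ⟨fun a b _ => hs a b⟩
    obtain ⟨T₂, g₂, i₂, -, h₂, -⟩ := exists_maximalTorus_containing (1 : T₀ ⟶ G) ht
    exact ⟨T₂, g₂, i₂, h₂⟩
  exact fin (Groth.L25.Bridge.P k B) hsub hT₀

end Groth.L24.TorusField
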