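import Mathlib.LinearAlgebra.Matrix.Charpoly.Basic
import Mathlib.LinearAlgebra.Matrix.NonsingularInverse
import Mathlib.LinearAlgebra.LinearIndependent.Lemmas
import Mathlib.Algebra.MvPolynomial.Funext

/-!
# Characteristic polynomials of the adjoint action inside matrices
-/

set_option autoImplicit false

universe u v w

noncomputable section

namespace Groth.L24.TorusField

variable {K : Type u} [Field K] {σ : Type v} [Fintype σ] [DecidableEq σ] {n : Type w} [Fintype n] [DecidableEq n]
  (B : n → Matrix σ σ K) (C : n → Matrix n n K)

/-- the matrix with given coordinates -/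
def comb (z : n → K) : Matrix σ σ K := ∑ j, z j • B j

/-- the adjoint matrix of an element with given coordinates -/
def adMat (c : n → K) : Matrix n n K := ∑ j, c j • C j

variable {B C}

theorem comb_injective (hB : LinearIndependent K B) : Function.Injective (comb B) := by
  intro x y h
  have h0 : ∑ j, (x j - y j) • B j = 0 := by
    simp only [sub_smul, Finset.sum_sub_distrib]
    exact sub_eq_zero.2 h
  exact funext fun j => sub_eq_zero.1 (Fintype.linearIndependent_iff.1 hB _ h0 j)

theorem comb_adMat (hC : ∀ i z, comb B ((C i).mulVec z) = B i * comb B z - comb B z * B i) (c z : n → K) :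
    comb B ((adMat C c).mulVec z) = comb B c * comb B z - comb B z * comb B c := by
  have h1 : (adMat C c).mulVec z = ∑ i, c i • (C i).mulVec z := by
    simp only [adMat, Matrix.sum_mulVec, Matrix.smul_mulVec]
  have h2 : comb B (∑ i, c i • (C i).mulVec z) = ∑ i, c i • comb B ((C i).mulVec z) := by
    simp only [comb, Finset.sum_apply, Pi.smul_apply, smul_eq_mul, Finset.sum_smul, Finset.smul_sum, smul_smul]
    exact Finset.sum_comm
  rw [h1, h2]
  simp only [hC, smul_sub, Finset.sum_sub_distrib]
  congr 1
  · simp only [comb]; rw [Finset.sum_mul]; simp only [Matrix.smul_mul]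
  · simp only [comb]; rw [Finset.mul_sum (a := ∑ j, z j • B j)]; simp only [Matrix.mul_smul]

-- the characteristic polynomial of the adjoint action is invariant under conjugation
theorem charpoly_adMat_conj (hB : LinearIndependent K B)
    (hC : ∀ i z, comb B ((C i).mulVec z) = B i * comb B z - comb B z * B i)
    {M N : Matrix σ σ K} (hMN : M * N = 1) (hconj : ∀ j, M * B j * N ∈ Submodule.span K (Set.range B))
    {c c' : n → K} (hc : comb B c' = M * comb B c * N) : (adMat C c').charpoly = (adMat C c).charpoly := by
  have hNM : N * M = 1 := mul_eq_one_comm.1 hMN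
  choose p hp using fun j => Submodule.mem_span_range_iff_exists_fun K |>.1 (hconj j)
  let P : Matrix n n K := Matrix.of fun i j => p j i
  have hP : ∀ z, comb B (P.mulVec z) = M * comb B z * N := by
    intro z
    simp only [comb, Matrix.mulVec, dotProduct, P, Matrix.of_apply, Matrix.mul_sum, Matrix.sum_mul, Matrix.mul_smul,
      Matrix.smul_mul, ← hp, Finset.sum_smul, Finset.smul_sum, smul_smul]
    rw [Finset.sum_comm]
    exact Finset.sum_congr rfl fun i _ => Finset.sum_congr rfl fun j _ => by rw [mul_comm]
  have hinj : Function.Injective P.mulVec := fun x y h => by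
    apply comb_injective hB
    have e := congrArg (fun z => N * comb B z * M) h
    simp only [hP] at e
    have e2 : ∀ z, N * (M * comb B z * N) * M = comb B z := fun z => by
      rw [show N * (M * comb B z * N) * M = (N * M) * comb B z * (N * M) by simp only [Matrix.mul_assoc], hNM,
        Matrix.one_mul, Matrix.mul_one]
    rwa [e2, e2] at e
  obtain ⟨U, hU⟩ := Matrix.mulVec_injective_iff_isUnit.1 hinj
  have key : adMat C c' * P = P * adMat C c := by
    refine Matrix.ext_iff_mulVec.2 fun z => comb_injective hB ?_
    rw [← Matrix.mulVec_mulVec, ← Matrix.mulVec_mulVec, comb_adMat hC, hP, hP, comb_adMat hC, hc]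
    have e3 : ∀ X Y : Matrix σ σ K, M * X * N * (M * Y * N) = M * (X * Y) * N := fun X Y => by
      rw [show M * X * N * (M * Y * N) = M * X * (N * M) * Y * N by simp only [Matrix.mul_assoc], hNM, Matrix.mul_one]
      simp only [Matrix.mul_assoc]
    rw [e3, e3, Matrix.mul_sub, Matrix.sub_mul]
  have e4 : adMat C c' = (U : Matrix n n K) * adMat C c * ((U⁻¹ : (Matrix n n K)ˣ) : Matrix n n K) := by
    rw [← hU] at key
    calc adMat C c' = adMat C c' * (U : Matrix n n K) * ((U⁻¹ : (Matrix n n K)ˣ) : Matrix n n K) := by
          rw [Matrix.mul_assoc, Units.mul_inv, Matrix.mul_one]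
      _ = _ := by rw [key]
  rw [e4, Matrix.coe_units_inv]
  exact Matrix.charpoly_units_conj U (adMat C c)

/-- a coefficient of the characteristic polynomial vanishing at all rational points of a linear family vanishes at all
points -/
theorem coeff_charpoly_generic {k : Type u} [Field k] [Infinite k] [Algebra k K] {ρ : Type*} [Fintype ρ] (r : ℕ)
    (D : ρ → Matrix n n k) (h : ∀ c : ρ → k, (∑ l, c l • D l).charpoly.coeff r = 0) (c : ρ → K) :
    (∑ l, c l • (D l).map (algebraMap k K)).charpoly.coeff r = 0 := by
  let X : Matrix n n (MvPolynomial ρ k) := ∑ l, (MvPolynomial.X l : MvPolynomial ρ k) • (D l).map (MvPolynomial.C : k →+* MvPolynomial ρ k)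
  have hev : ∀ {R : Type u} [CommRing R] (f : MvPolynomial ρ k →+* R) (g : k →+* R) (c : ρ → R),
      f.comp MvPolynomial.C = g → (∀ l, f (MvPolynomial.X l) = c l) →
      f (X.charpoly.coeff r) = (∑ l, c l • (D l).map g).charpoly.coeff r := by
    intro R _ f g c hg hX
    rw [← Polynomial.coeff_map, ← Matrix.charpoly_map]
    congr 2
    simp only [X, ← RingHom.mapMatrix_apply, map_sum]
    refine Finset.sum_congr rfl fun l _ => ?_
    ext i j
    simp [RingHom.mapMatrix_apply, hX, ← hg]
  have h0 : X.charpoly.coeff r = 0 := MvPolynomial.funext fun x => by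
    rw [map_zero, hev (MvPolynomial.eval x) (RingHom.id k) x (RingHom.ext fun a => by simp) (fun l => by simp)]
    simpa using h x
  have e := hev (MvPolynomial.eval₂Hom (algebraMap k K) c) (algebraMap k K) c (RingHom.ext fun a => by simp)
    (fun l => by simp)
  rw [h0, map_zero] at e
  exact e.symm

end Groth.L24.TorusField
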