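import Groth.Agent.L24.TorusField.LieNilp
import Groth.Agent.L24.TorusField.AdConj
import Mathlib.Algebra.Lie.Rank
import Mathlib.LinearAlgebra.Matrix.Charpoly.Eigs
import Mathlib.RingTheory.Flat.Basic

/-!
# The Lie algebra inside matrices
-/

set_option autoImplicit false
set_option backward.isDefEq.respectTransparency false
set_option backward.isDefEq.respectTransparency.types false
set_option linter.style.haveILetI false

universe u v

open CategoryTheory MonoidalCategory CartesianMonoidalCategory MonObj GrpObj AlgebraicGeometry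
open WithConv LieS
open Groth.L25.Bridge (P)

noncomputable section

namespace Groth.L24.TorusField

open Groth.L08.AugGraded

variable {k : Type u} [Field k] {A : Type u} [CommRing A] [HopfAlgebra k A] {σ : Type v} [Fintype σ] [DecidableEq σ]
  {G : Over (Spec (CommRingCat.of k))} [GrpObj G] (eq : G ≅ P k A) [IsMonHom eq.hom] {a : Matrix σ σ A}
  (h : Gens k a) {L : Type u} [LieRing L] [LieAlgebra k L]

local notation "f₀" => Spec.map (CommRingCat.ofHom (algebraMap k k))

include h in
theorem lieMat_mul (x y : LieS.Lie G k f₀) : lieMat eq a (x * y).1 = lieMat eq a x.1 + lieMat eq a y.1 := by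
  have e : ptMat a (evAt eq (dptIso (R := k) k) (x * y).1).ofConv =
      ptMat a (evAt eq (dptIso (R := k) k) x.1).ofConv * ptMat a (evAt eq (dptIso (R := k) k) y.1).ofConv := by
    rw [← ptMat_mul h, ← evAt_mul]; rfl
  rw [ptMat_lie eq h, ptMat_lie eq h, ptMat_lie eq h] at e
  ext i j
  have e2 := congrArg (fun M : Matrix σ σ (DualNumber k) => (M i j).snd) e
  simpa [Matrix.mul_apply, Matrix.one_apply, Matrix.add_apply, TrivSqZeroExt.algebraMap_eq_inl',
    TrivSqZeroExt.snd_mul, add_mul, mul_add, apply_ite TrivSqZeroExt.snd, Finset.sum_add_distrib,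
    TrivSqZeroExt.snd_sum, TrivSqZeroExt.fst_mul] using e2

theorem lieMat_smul (c : k) (x : LieS.Lie G k f₀) : lieMat eq a (c • x).1 = c • lieMat eq a x.1 := by
  ext i j
  show ((evAt eq (dptIso (R := k) k) (scale k f₀ c ≫ x.1)).ofConv (a i j)).snd = _
  rw [evAt_comp eq (dptIso (R := k) k) (dptIso (R := k) k) (scaleHom c) (scale k f₀ c) (by
    simp only [Over.comp_left]
    show 𝟙 _ ≫ Spec.map _ ≫ 𝟙 _ = _
    rw [Category.id_comp, Category.comp_id]) x.1 (a i j)]
  simp [scaleHom, lieMat, ptMat, TrivSqZeroExt.algebraMap_eq_inl', mul_comm]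

include h in
theorem lieMat_eq_zero (x : LieS.Lie G k f₀) (hx : lieMat eq a x.1 = 0) : x = 1 := by
  have e : evAt eq (dptIso (R := k) k) x.1 = 1 := by
    refine WithConv.ofConv_injective (AlgHom.ext_of_adjoin_eq_top h.gen ?_)
    rintro _ ⟨⟨i, j⟩, rfl⟩
    have e1 : ptMat a (evAt eq (dptIso (R := k) k) x.1).ofConv i j =
        (1 : Matrix σ σ (DualNumber k)) i j := by
      rw [ptMat_lie eq h, hx]; simp
    refine e1.trans ?_
    rw [AlgHom.convOne_apply, h.counit]
    rcases eq_or_ne i j with rfl | hij <;> simp [*]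
  rw [← evAt_one eq (dptIso (R := k) k)] at e
  refine Subtype.ext ?_
  have e2 := (Spec.mapMulEquiv (R := k) (S := A) (T := DualNumber k)).symm.injective e
  rw [cancel_epi, cancel_mono] at e2
  exact e2

variable (m : LieS.Model G k (Spec.map (CommRingCat.ofHom (algebraMap k k))) L)

theorem lieMat_e_smul (c : k) (x : L) :
    lieMat eq a (m.e (Multiplicative.ofAdd (c • x))).1 = c • lieMat eq a (m.e (Multiplicative.ofAdd x)).1 := by
  rw [m.e_smul c x]
  exact lieMat_smul eq c _

include h in
theorem lieMat_e_add (x y : L) : lieMat eq a (m.e (Multiplicative.ofAdd (x + y))).1 =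
    lieMat eq a (m.e (Multiplicative.ofAdd x)).1 + lieMat eq a (m.e (Multiplicative.ofAdd y)).1 := by
  rw [ofAdd_add, map_mul m.e]
  exact lieMat_mul eq h _ _

/-- the matrix representation of the Lie algebra -/
def lieRepₗ : L →ₗ[k] Matrix σ σ k :=
  IsLinearMap.mk' (fun x => lieMat eq a (m.e (Multiplicative.ofAdd x)).1)
    ⟨lieMat_e_add eq h m, lieMat_e_smul eq m⟩

include h in
theorem lieRepₗ_injective : Function.Injective (lieRepₗ eq h m) := by
  refine (injective_iff_map_eq_zero _).2 fun x hx => ?_
  have e := lieMat_eq_zero eq h _ hx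
  rw [← map_one m.e] at e
  exact ofAdd_eq_one.1 (m.e.injective e)

include h in
theorem lieRepₗ_lie (x y : L) :
    lieRepₗ eq h m ⁅x, y⁆ = lieRepₗ eq h m x * lieRepₗ eq h m y - lieRepₗ eq h m y * lieRepₗ eq h m x :=
  lieMat_bracket eq h _ _ _ (m.e_lie x y)

include h in
theorem adN_lieRepₗ (n : ℕ) (x y : L) :
    adN n (lieRepₗ eq h m x) (lieRepₗ eq h m y) = lieRepₗ eq h m (((LieAlgebra.ad k L x) ^ n) y) := by
  induction n with
  | zero => rfl
  | succ n ih =>
    rw [adN, Function.iterate_succ_apply', ← adN, ih, pow_succ', Module.End.mul_apply, LieAlgebra.ad_apply,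
      lieRepₗ_lie]

/-- the Lie element of a tangent vector -/
def liePt {w : A →ₗ[k] k} (hw : IsTangent k A w) : dpt k f₀ ⟶ G :=
  (dptIso (R := k) k).hom ≫ Spec.mapMulEquiv (toConv (dualPt hw)) ≫ eq.inv

theorem evAt_liePt {w : A →ₗ[k] k} (hw : IsTangent k A w) :
    evAt eq (dptIso (R := k) k) (liePt eq hw) = toConv (dualPt hw) := by
  simp only [evAt, liePt, Category.assoc, Iso.inv_hom_id_assoc, Iso.inv_hom_id, Category.comp_id,
    MulEquiv.symm_apply_apply]

theorem liePt_mem {w : A →ₗ[k] k} (hw : IsTangent k A w) : liePt eq hw ∈ LieS.Lie G k f₀ := by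
  let e0 : pt k f₀ ≅ (Spec (CommRingCat.of k)).asOver (Spec (CommRingCat.of k)) :=
    Over.isoMk (Iso.refl (Spec (CommRingCat.of k))) (Category.id_comp _)
  rw [mem_Lie_iff, ← cancel_mono eq.hom, MonObj.one_comp, ← cancel_epi e0.inv, MonObj.comp_one]
  apply (Spec.mapMulEquiv (R := k) (S := A) (T := k)).symm.injective
  rw [map_one]
  refine WithConv.ofConv_injective (AlgHom.ext fun x => ?_)
  have e1 := evAt_comp eq (dptIso (R := k) k) e0 (TrivSqZeroExt.fstHom k k k).toRingHom (zeroSec k f₀) (by
    simp only [Over.comp_left]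
    show 𝟙 _ ≫ Spec.map _ ≫ 𝟙 _ = _
    rw [Category.id_comp, Category.comp_id]) (liePt eq hw) x
  rw [evAt_liePt] at e1
  refine (show _ = (evAt eq e0 (zeroSec k f₀ ≫ liePt eq hw)).ofConv x from by simp only [evAt, Category.assoc]).trans
    (e1.trans ?_)
  simp [fst_dualPt, AlgHom.convOne_apply]

include h in
/-- the Lie algebra maps onto the tangent vectors -/
theorem exists_lieRepₗ_eq {w : A →ₗ[k] k} (hw : IsTangent k A w) : ∃ x, lieRepₗ eq h m x = mat a w := by
  refine ⟨Multiplicative.toAdd (m.e.symm ⟨liePt eq hw, liePt_mem eq hw⟩), ?_⟩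
  show lieMat eq a (m.e (Multiplicative.ofAdd _)).1 = _
  rw [ofAdd_toAdd, MulEquiv.apply_symm_apply]
  ext1 i j
  show ((evAt eq (dptIso (R := k) k) (liePt eq hw)).ofConv (a i j)).snd = w (a i j)
  rw [evAt_liePt]
  exact snd_dualPt hw _

include h in
/-- every element of the Lie algebra is a tangent vector -/
theorem exists_tangent_eq (x : L) : ∃ w : A →ₗ[k] k, IsTangent k A w ∧ mat a w = lieRepₗ eq h m x := by
  let z := m.e (Multiplicative.ofAdd x)
  let χ : A →ₐ[k] DualNumber k := (evAt eq (dptIso (R := k) k) z.1).ofConv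
  have hfst : ∀ p, (χ p).fst = Coalgebra.counit (R := k) p := by
    intro p
    have e : (TrivSqZeroExt.fstHom k k k).comp χ = Bialgebra.counitAlgHom k A := by
      refine AlgHom.ext_of_adjoin_eq_top h.gen ?_
      rintro _ ⟨⟨i, j⟩, rfl⟩
      show (ptMat a χ i j).fst = Coalgebra.counit (R := k) (a i j)
      rw [h.counit, show ptMat a χ = _ from ptMat_lie eq h z]
      rcases eq_or_ne i j with rfl | hij <;> simp [*]
    exact DFunLike.congr_fun e p
  let w : A →ₗ[k] k :=
    { toFun := fun p => (χ p).snd
      map_add' := fun p q => by simp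
      map_smul' := fun c p => by simp }
  refine ⟨w, fun p q => ?_, rfl⟩
  show (χ (p * q)).snd = _
  rw [map_mul, DualNumber.snd_mul, hfst, hfst]
  show _ = Coalgebra.counit (R := k) p * (χ q).snd + Coalgebra.counit (R := k) q * (χ p).snd
  ring

variable [Module.Finite k L]

include h in
/-- the adjoint matrices in a basis -/
theorem comb_adBasis {n : Type} [Fintype n] [DecidableEq n] (b : Module.Basis n k L) (i : n) (z : n → k) :
    comb (fun j => lieRepₗ eq h m (b j)) ((LinearMap.toMatrix b b (LieAlgebra.ad k L (b i))).mulVec z) =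
      lieRepₗ eq h m (b i) * comb (fun j => lieRepₗ eq h m (b j)) z -
        comb (fun j => lieRepₗ eq h m (b j)) z * lieRepₗ eq h m (b i) := by
  have hcomb : ∀ z : n → k, comb (fun j => lieRepₗ eq h m (b j)) z = lieRepₗ eq h m (b.equivFun.symm z) := by
    intro z
    rw [Module.Basis.equivFun_symm_apply, map_sum]
    simp only [map_smul, comb]
  rw [hcomb, hcomb, ← lieRepₗ_lie, ← LieAlgebra.ad_apply (R := k)]
  congr 1
  apply b.equivFun.injective
  rw [LinearEquiv.apply_symm_apply]
  have := LinearMap.toMatrix_mulVec_repr b b (LieAlgebra.ad k L (b i)) (b.equivFun.symm z)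
  simp only [← Module.Basis.equivFun_apply, LinearEquiv.apply_symm_apply] at this
  exact this

section Ext

variable {K : Type u} [Field K] [Algebra k K] {n : Type} [Fintype n] [DecidableEq n]

omit [Fintype σ] [DecidableEq σ] [DecidableEq n] in
theorem comb_map (B : n → Matrix σ σ k) (z : n → k) :
    comb (fun j => (B j).map (algebraMap k K)) (fun j => algebraMap k K (z j)) = (comb B z).map (algebraMap k K) := by
  ext p q
  simp [comb, Matrix.sum_apply, Matrix.map_apply, map_sum, Algebra.smul_def]

/-- independent matrices stay independent over an extension -/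
theorem linearIndependent_map {B : n → Matrix σ σ k} (hB : LinearIndependent k B) :
    LinearIndependent K fun j => (B j).map (algebraMap k K) := by
  obtain ⟨g, hg⟩ := LinearMap.exists_leftInverse_of_injective (Fintype.linearCombination k B)
    (LinearMap.ker_eq_bot.2 (linearIndependent_iff_injective_fintypeLinearCombination.1 hB))
  rw [Fintype.linearIndependent_iff]
  intro c hc l
  have hgB : ∀ j, ∑ p : σ, ∑ q : σ, B j p q * g (Matrix.single p q 1) l = if j = l then 1 else 0 := by
    intro j
    have e : g (B j) = Pi.single j 1 := by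
      have := LinearMap.congr_fun hg (Pi.single j 1)
      rwa [LinearMap.comp_apply, Fintype.linearCombination_apply_single, one_smul] at this
    conv_lhs at e => rw [Matrix.matrix_eq_sum_single (B j)]
    have e' := congrFun e l
    simp only [map_sum, Finset.sum_apply, Pi.single_apply] at e'
    rw [show (if j = l then (1 : k) else 0) = if l = j then 1 else 0 by simp only [eq_comm], ← e']
    refine Finset.sum_congr rfl fun p _ => Finset.sum_congr rfl fun q _ => ?_
    rw [show Matrix.single p q (B j p q) = B j p q • Matrix.single p q (1 : k) by simp, map_smul]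
    rfl
  have e := congrArg (fun Y : Matrix σ σ K => ∑ p : σ, ∑ q : σ, Y p q * algebraMap k K (g (Matrix.single p q 1) l)) hc
  simp only [Matrix.sum_apply, Matrix.smul_apply, Matrix.map_apply, smul_eq_mul, Matrix.zero_apply, zero_mul,
    Finset.sum_const_zero, Finset.sum_mul] at e
  simp_rw [Finset.sum_comm (s := (Finset.univ : Finset σ)) (t := (Finset.univ : Finset n)), _root_.mul_assoc,
    ← Finset.mul_sum, ← map_mul, ← map_sum, hgB] at e
  simpa [apply_ite (algebraMap k K)] using e

/-- the bracket relation over an extension -/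
theorem comb_adBasis_map {B : n → Matrix σ σ k} {C : n → Matrix n n k}
    (hC : ∀ i z, comb B ((C i).mulVec z) = B i * comb B z - comb B z * B i) (i : n) (z : n → K) :
    comb (fun j => (B j).map (algebraMap k K)) (((C i).map (algebraMap k K)).mulVec z) =
      (B i).map (algebraMap k K) * comb (fun j => (B j).map (algebraMap k K)) z -
        comb (fun j => (B j).map (algebraMap k K)) z * (B i).map (algebraMap k K) := by
  let F : (n → K) →ₗ[K] Matrix σ σ K := Fintype.linearCombination K fun j => (B j).map (algebraMap k K)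
  have hF : ∀ y, F y = comb (fun j => (B j).map (algebraMap k K)) y := fun y => rfl
  suffices e : F ∘ₗ ((C i).map (algebraMap k K)).mulVecLin =
      (LinearMap.mulLeft K ((B i).map (algebraMap k K)) - LinearMap.mulRight K ((B i).map (algebraMap k K))) ∘ₗ F by
    exact LinearMap.congr_fun e z
  refine (Pi.basisFun K n).ext fun l => ?_
  simp only [LinearMap.comp_apply, LinearMap.sub_apply, LinearMap.mulLeft_apply, LinearMap.mulRight_apply,
    Matrix.mulVecLin_apply, hF, Pi.basisFun_apply]
  rw [show (Pi.single l (1 : K) : n → K) = fun j => algebraMap k K ((Pi.single l 1 : n → k) j) from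
      funext fun j => by rcases eq_or_ne j l with rfl | hj <;> simp [*],
    show ((C i).map (algebraMap k K)).mulVec (fun j => algebraMap k K ((Pi.single l 1 : n → k) j)) =
      fun j => algebraMap k K ((C i).mulVec (Pi.single l 1) j) from
      funext fun j => (RingHom.map_mulVec (algebraMap k K) (C i) (Pi.single l 1) j).symm,
    comb_map, comb_map, ← Matrix.map_mul, ← Matrix.map_mul, hC, Matrix.map_sub _ (map_sub (algebraMap k K))]

end Ext

section Regular

variable [Infinite k] [Algebra.FiniteType k A] (d : GenData k A)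

/-- some regular element is semisimple -/
theorem exists_regular_semisimple : ∃ (x : L) (s : A →ₗ[k] k), LieAlgebra.IsRegular k x ∧ IsTangent k A s ∧
    IsDiagTangent s ∧ lieRepₗ eq d.gens m x = mat d.a s := by
  obtain ⟨x, hx⟩ := LieAlgebra.exists_isRegular k L
  obtain ⟨v, hv, hvx⟩ := exists_tangent_eq eq d.gens m x
  obtain ⟨s, hs, hd, hdk, hs3⟩ := exists_semisimple_mat d hv
  obtain ⟨xs, hxs⟩ := exists_lieRepₗ_eq eq d.gens m hs
  refine ⟨xs, s, ?_, hs, hd, hxs⟩
  have hle : LieSubalgebra.engel k xs ≤ LieSubalgebra.engel k x := by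
    intro y hy
    rw [LieSubalgebra.mem_engel_iff] at hy ⊢
    obtain ⟨N, hN⟩ := hy
    obtain ⟨φ, hφ, hφy⟩ := exists_tangent_eq eq d.gens m y
    have h0 : adN (N + 1) (mat d.a s) (mat d.a φ) = 0 := by
      rw [← hxs, hφy, adN_lieRepₗ, pow_succ', Module.End.mul_apply, hN, map_zero, map_zero]
    have h1 := congrArg (fun M : Matrix d.ι d.ι k => M.map (algebraMap k (AlgebraicClosure k))) h0
    simp only [adN_map, Matrix.map_zero _ (map_zero _)] at h1
    have hc := commute_of_adN hdk h1
    have hc' : Commute (mat d.a s) (mat d.a φ) := by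
      refine Matrix.map_injective (algebraMap k (AlgebraicClosure k)).injective ?_
      show (mat d.a s * mat d.a φ).map _ = (mat d.a φ * mat d.a s).map _
      rw [Matrix.map_mul, Matrix.map_mul, hc.eq]
    refine ⟨2 * Fintype.card d.ι + ringExpChar k ^ Fintype.card d.ι, lieRepₗ_injective eq d.gens m ?_⟩
    rw [map_zero, ← adN_lieRepₗ, ← hvx, ← hφy]
    exact hs3 φ hc' _ le_rfl
  have h1 : Module.finrank k (LieSubalgebra.engel k xs) ≤ Module.finrank k (LieSubalgebra.engel k x) :=
    Submodule.finrank_mono (s := (LieSubalgebra.engel k xs).toSubmodule) (t := (LieSubalgebra.engel k x).toSubmodule) hle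
  rw [LieAlgebra.isRegular_iff_finrank_engel_eq_rank] at hx ⊢
  exact le_antisymm (h1.trans hx.le) (LieAlgebra.rank_le_finrank_engel k xs)

end Regular

end Groth.L24.TorusField
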