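import Groth.Agent.L24.TorusField.Semisimple
import Groth.Agent.L25.Bridge.Spec
import Groth.Prelude.Def_LieS
import Mathlib.Algebra.Lie.Nilpotent

/-!
# Nilpotent Lie algebras: iterated commutators of tangent vectors vanish
-/

set_option autoImplicit false
set_option backward.isDefEq.respectTransparency false
set_option backward.isDefEq.respectTransparency.types false
set_option linter.style.haveILetI false

universe u v

open CategoryTheory MonoidalCategory CartesianMonoidalCategory MonObj GrpObj AlgebraicGeometry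
open WithConv LieS
open Groth.L25.Bridge (P)

noncomputable section

namespace Groth.L24.TorusField

open Groth.L08.AugGraded

section PtMat

variable {k : Type u} [Field k] {A : Type u} [CommRing A] [HopfAlgebra k A] {σ : Type v} [Fintype σ] [DecidableEq σ]

/-- the matrix of an algebra-valued point -/
def ptMat {R : Type u} [CommRing R] [Algebra k R] (a : Matrix σ σ A) (χ : A →ₐ[k] R) : Matrix σ σ R := a.map χ

theorem ptMat_mul {R : Type u} [CommRing R] [Algebra k R] {a : Matrix σ σ A} (h : Gens k a)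
    (χ χ' : WithConv (A →ₐ[k] R)) : ptMat a (χ * χ').ofConv = ptMat a χ.ofConv * ptMat a χ'.ofConv := by
  ext i j
  show (χ * χ') (a i j) = _
  rw [AlgHom.convMul_apply, h.comul, Matrix.mul_apply]
  simp [map_sum, ptMat]

variable {G : Over (Spec (CommRingCat.of k))} [GrpObj G] (eq : G ≅ P k A) [IsMonHom eq.hom]

/-- the algebra map of a point with values in a scheme identified with a spectrum -/
def evAt {R : Type u} [CommRing R] [Algebra k R] {X : Over (Spec (CommRingCat.of k))}
    (e : X ≅ (Spec (CommRingCat.of R)).asOver (Spec (CommRingCat.of k))) (z : X ⟶ G) : WithConv (A →ₐ[k] R) :=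
  (Spec.mapMulEquiv (R := k) (S := A) (T := R)).symm (e.inv ≫ z ≫ eq.hom)

theorem evAt_mul {R : Type u} [CommRing R] [Algebra k R] {X : Over (Spec (CommRingCat.of k))}
    (e : X ≅ (Spec (CommRingCat.of R)).asOver (Spec (CommRingCat.of k))) (z z' : X ⟶ G) :
    evAt eq e (z * z') = evAt eq e z * evAt eq e z' := by
  rw [evAt, evAt, evAt, ← map_mul, MonObj.mul_comp, MonObj.comp_mul]

theorem evAt_one {R : Type u} [CommRing R] [Algebra k R] {X : Over (Spec (CommRingCat.of k))}
    (e : X ≅ (Spec (CommRingCat.of R)).asOver (Spec (CommRingCat.of k))) :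
    evAt eq e (1 : X ⟶ G) = 1 := by
  rw [evAt, MonObj.one_comp, MonObj.comp_one, map_one]

theorem evAt_comp {R R' : Type u} [CommRing R] [Algebra k R] [CommRing R'] [Algebra k R']
    {X X' : Over (Spec (CommRingCat.of k))} (e : X ≅ (Spec (CommRingCat.of R)).asOver (Spec (CommRingCat.of k)))
    (e' : X' ≅ (Spec (CommRingCat.of R')).asOver (Spec (CommRingCat.of k))) (ρ : R →+* R') (g : X' ⟶ X)
    (hg : (e'.inv ≫ g ≫ e.hom).left = Spec.map (CommRingCat.ofHom ρ)) (z : X ⟶ G) (x : A) :
    (evAt eq e' (g ≫ z)).ofConv x = ρ ((evAt eq e z).ofConv x) := by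
  show (Spec.preimage (e'.inv ≫ (g ≫ z) ≫ eq.hom).left).hom x = ρ ((Spec.preimage (e.inv ≫ z ≫ eq.hom).left).hom x)
  have h1 : (e'.inv ≫ (g ≫ z) ≫ eq.hom).left = Spec.map (CommRingCat.ofHom ρ) ≫ (e.inv ≫ z ≫ eq.hom).left := by
    rw [← hg, ← Over.comp_left]
    simp only [Category.assoc, Iso.hom_inv_id_assoc]
  rw [h1]
  have h2 : Spec.preimage (Spec.map (CommRingCat.ofHom ρ) ≫ (e.inv ≫ z ≫ eq.hom).left) =
      Spec.preimage (e.inv ≫ z ≫ eq.hom).left ≫ CommRingCat.ofHom ρ := by
    apply Spec.map_injective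
    rw [Spec.map_preimage, Spec.map_comp, Spec.map_preimage]
  rw [h2]
  rfl

end PtMat

section Tangent

variable {k : Type u} [Field k] {A : Type u} [CommRing A] [HopfAlgebra k A] {σ : Type v} [Fintype σ] [DecidableEq σ]

/-- the point with values in dual numbers attached to a tangent vector -/
def dualPt {w : A →ₗ[k] k} (hw : IsTangent k A w) : A →ₐ[k] DualNumber k where
  toFun x := TrivSqZeroExt.inl (Coalgebra.counit (R := k) x) + TrivSqZeroExt.inr (w x)
  map_one' := by
    have h1 : w 1 = 0 := by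
      have := hw 1 1
      rw [_root_.one_mul, Bialgebra.counitAlgHom_apply, Bialgebra.counit_one, _root_.one_mul] at this
      linear_combination (-1 : k) * this
    refine TrivSqZeroExt.ext ?_ ?_ <;> simp [h1]
  map_mul' x y := by
    have e : w (x * y) = Coalgebra.counit (R := k) x * w y + Coalgebra.counit (R := k) y * w x := hw x y
    refine TrivSqZeroExt.ext ?_ ?_
    · simp
    · simp [e, TrivSqZeroExt.snd_mul]; ring
  map_zero' := by refine TrivSqZeroExt.ext ?_ ?_ <;> simp
  map_add' x y := by refine TrivSqZeroExt.ext ?_ ?_ <;> simp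
  commutes' c := by
    have h1 : w 1 = 0 := by
      have := hw 1 1
      rw [_root_.one_mul, Bialgebra.counitAlgHom_apply, Bialgebra.counit_one, _root_.one_mul] at this
      linear_combination (-1 : k) * this
    refine TrivSqZeroExt.ext ?_ ?_ <;>
      simp [Algebra.algebraMap_eq_smul_one, h1, TrivSqZeroExt.algebraMap_eq_inl']

theorem fst_dualPt {w : A →ₗ[k] k} (hw : IsTangent k A w) (x : A) :
    (dualPt hw x).fst = Coalgebra.counit (R := k) x := by simp [dualPt]

theorem snd_dualPt {w : A →ₗ[k] k} (hw : IsTangent k A w) (x : A) : (dualPt hw x).snd = w x := by simp [dualPt]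

end Tangent

section Bracket

variable {k : Type u} [Field k] {σ : Type v} [Fintype σ] [DecidableEq σ]

/-- reading the bracket from the commutator relation -/
theorem bracket_of_comm {X Y Z : Matrix σ σ k}
    (h : ((1 + (TrivSqZeroExt.inl (DualNumber.eps : DualNumber k) * DualNumber.eps : D2 k) • Z.map (toD2 k)) *
        ((1 + (TrivSqZeroExt.inl (DualNumber.eps : DualNumber k) : D2 k) • Y.map (toD2 k)) *
          (1 + (DualNumber.eps : D2 k) • X.map (toD2 k))) : Matrix σ σ (D2 k)) =
      (1 + (DualNumber.eps : D2 k) • X.map (toD2 k)) *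
        (1 + (TrivSqZeroExt.inl (DualNumber.eps : DualNumber k) : D2 k) • Y.map (toD2 k))) :
    Z = X * Y - Y * X := by
  let a : D2 k := DualNumber.eps
  let b : D2 k := TrivSqZeroExt.inl (DualNumber.eps : DualNumber k)
  have ha : a * a = 0 := DualNumber.eps_mul_eps
  have hb : b * b = 0 := by
    rw [show b * b = TrivSqZeroExt.inl ((DualNumber.eps : DualNumber k) * DualNumber.eps) from
      (TrivSqZeroExt.inl_mul _ _ _).symm, DualNumber.eps_mul_eps, TrivSqZeroExt.inl_zero]
  have h1 : (b * a) • (Z + Y * X - X * Y).map (toD2 k) = (0 : Matrix σ σ (D2 k)) := by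
    simp only [Matrix.map_sub _ (map_sub (toD2 k)), Matrix.map_add _ (map_add (toD2 k)), Matrix.map_mul]
    change ((1 + (b * a) • Z.map (toD2 k)) * ((1 + b • Y.map (toD2 k)) * (1 + a • X.map (toD2 k))) : Matrix σ σ (D2 k)) =
      (1 + a • X.map (toD2 k)) * (1 + b • Y.map (toD2 k)) at h
    have e0 : ∀ c d : D2 k, ∀ M N : Matrix σ σ (D2 k), (c • M) * (d • N) = (c * d) • (M * N) := fun c d M N => by
      refine Matrix.ext fun i j => ?_
      simp only [Matrix.mul_apply, Matrix.smul_apply, smul_eq_mul, Finset.mul_sum]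
      exact Finset.sum_congr rfl fun l _ => by ring
    simp only [Matrix.add_mul, Matrix.mul_add, Matrix.one_mul, Matrix.mul_one, e0] at h
    rw [show b * a * b = 0 by rw [mul_comm b a, _root_.mul_assoc, hb, mul_zero],
      show b * a * a = 0 by rw [_root_.mul_assoc, ha, mul_zero],
      show b * a * (b * a) = 0 by rw [show b * a * (b * a) = b * b * (a * a) by ring, hb, zero_mul],
      mul_comm a b] at h
    simp only [zero_smul, add_zero] at h
    rw [smul_sub, smul_add]
    rw [← sub_eq_zero] at h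
    rw [← h]
    abel
  rw [eq_sub_iff_add_eq, ← sub_eq_zero]
  ext i j
  have h2 := congrArg (fun M : Matrix σ σ (D2 k) => (M i j).snd.snd) h1
  simpa [a, b, Matrix.map_apply, TrivSqZeroExt.algebraMap_eq_inl'] using h2

end Bracket

section Main

variable {k : Type u} [Field k] {A : Type u} [CommRing A] [HopfAlgebra k A] {σ : Type v} [Fintype σ] [DecidableEq σ]
  {G : Over (Spec (CommRingCat.of k))} [GrpObj G] (eq : G ≅ P k A) [IsMonHom eq.hom]

local notation "f₀" => Spec.map (CommRingCat.ofHom (algebraMap k k))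

/-- iterated dual numbers as a spectrum over the field -/
def d2Iso : d2pt k f₀ ≅ (Spec (CommRingCat.of (D2 k))).asOver (Spec (CommRingCat.of k)) :=
  Over.isoMk (Iso.refl (Spec (CommRingCat.of (D2 k)))) (by
    change 𝟙 _ ≫ Spec.map _ = Spec.map _ ≫ Spec.map _ ≫ Spec.map _
    rw [Category.id_comp, ← Category.assoc, specMap_comp, specMap_comp]
    congr 2)

variable (a : Matrix σ σ A)

/-- the coefficient matrix of a Lie element -/
def lieMat (z : dpt k f₀ ⟶ G) : Matrix σ σ k :=
  (ptMat a (evAt eq (dptIso (R := k) k) z).ofConv).map fun x => x.snd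

variable {a} (h : Gens k a)

include h in
theorem ptMat_lie (z : LieS.Lie G k f₀) :
    ptMat a (evAt eq (dptIso (R := k) k) z.1).ofConv =
      1 + (DualNumber.eps : DualNumber k) • (lieMat eq a z.1).map (algebraMap k (DualNumber k)) := by
  let e0 : pt k f₀ ≅ (Spec (CommRingCat.of k)).asOver (Spec (CommRingCat.of k)) :=
    Over.isoMk (Iso.refl (Spec (CommRingCat.of k))) (Category.id_comp _)
  have hz : evAt eq e0 (zeroSec k f₀ ≫ z.1) = 1 := by
    rw [(mem_Lie_iff G k f₀ z.1).1 z.2, evAt_one]
  ext i j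
  · have e1 := evAt_comp eq (dptIso (R := k) k) e0 (TrivSqZeroExt.fstHom k k k).toRingHom (zeroSec k f₀) (by
      simp only [Over.comp_left]
      show 𝟙 _ ≫ Spec.map _ ≫ 𝟙 _ = _
      rw [Category.id_comp, Category.comp_id]) z.1 (a i j)
    rw [hz] at e1
    simp only [AlgHom.convOne_apply, h.counit, Algebra.algebraMap_self, RingHom.id_apply] at e1
    rw [Matrix.add_apply, Matrix.smul_apply, TrivSqZeroExt.fst_add]
    refine e1.symm.trans ?_
    rcases eq_or_ne i j with rfl | hij
    · simp
    · simp [hij]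
  · rw [Matrix.add_apply, Matrix.smul_apply, TrivSqZeroExt.snd_add]
    rcases eq_or_ne i j with rfl | hij
    · simp [lieMat, TrivSqZeroExt.algebraMap_eq_inl']
    · simp [lieMat, hij, TrivSqZeroExt.algebraMap_eq_inl']

include h in
theorem lieMat_bracket (x y z : LieS.Lie G k f₀) (hb : IsBracket G k f₀ x y z) :
    lieMat eq a z.1 = lieMat eq a x.1 * lieMat eq a y.1 - lieMat eq a y.1 * lieMat eq a x.1 := by
  apply bracket_of_comm
  have hsh : ∀ (g : d2pt k f₀ ⟶ dpt k f₀) (ρ : DualNumber k →+* D2 k), g.left = Spec.map (CommRingCat.ofHom ρ) →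
      ρ.comp (algebraMap k (DualNumber k)) = toD2 k → ∀ c : D2 k, ρ DualNumber.eps = c →
      ∀ w : LieS.Lie G k f₀, ptMat a (evAt eq (d2Iso (k := k)) (g ≫ w.1)).ofConv =
        1 + c • (lieMat eq a w.1).map (toD2 k) := by
    intro g ρ hg hρ c hc w
    have e : ptMat a (evAt eq (d2Iso (k := k)) (g ≫ w.1)).ofConv =
        (ptMat a (evAt eq (dptIso (R := k) k) w.1).ofConv).map ρ := by
      ext1 i j
      exact evAt_comp eq (dptIso (R := k) k) (d2Iso (k := k)) ρ g (by
        simp only [Over.comp_left]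
        show 𝟙 _ ≫ g.left ≫ 𝟙 _ = _
        rw [Category.id_comp, Category.comp_id, hg]) w.1 (a i j)
    rw [e, ptMat_lie eq h, ← RingHom.mapMatrix_apply, map_add, map_one]
    congr 1
    ext1 i j
    simp only [RingHom.mapMatrix_apply, Matrix.map_apply, Matrix.smul_apply, smul_eq_mul, map_mul, hc]
    exact congrArg (c * ·) (RingHom.congr_fun hρ _)
  rw [← hsh (mulMap k f₀) (mulHom k) rfl (mulHom_comp_algebraMap k) _ (by simp [mulHom, TrivSqZeroExt.algebraMap_eq_inl']) z,
    ← hsh (proj (DualNumber k) (dpt k f₀).hom) (algebraMap (DualNumber k) (D2 k)) rfl rfl _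
      (by simp [TrivSqZeroExt.algebraMap_eq_inl']) y,
    ← hsh (dptMap f₀ (algebraMap k (DualNumber k))) (bcHom (algebraMap k (DualNumber k))) rfl
      (bcHom_comp_algebraMap _) _ (by simp [bcHom]) x,
    ← ptMat_mul h, ← ptMat_mul h, ← ptMat_mul h, ← evAt_mul, ← evAt_mul, ← evAt_mul]
  congr 2
  unfold IsBracket at hb
  rw [hb]
  group

include h in
theorem lieMat_one : lieMat eq a (1 : LieS.Lie G k f₀).1 = 0 := by
  ext i j
  show ((evAt eq (dptIso (R := k) k) (1 : dpt k f₀ ⟶ G)).ofConv (a i j)).snd = 0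
  rw [evAt_one]
  simp [AlgHom.convOne_apply, TrivSqZeroExt.algebraMap_eq_inl']

include eq h in
/-- iterated commutators of tangent vectors vanish when the Lie algebra is nilpotent -/
theorem adN_eq_zero_of_nilpotent {L : Type u} [LieRing L] [LieAlgebra k L] (m : LieS.Model G k f₀ L)
    (hL : LieRing.IsNilpotent L) :
    ∃ N : ℕ, ∀ s v : A →ₗ[k] k, IsTangent k A s → IsTangent k A v → adN (N + 1) (mat a s) (mat a v) = 0 := by
  obtain ⟨N, hN⟩ := LieModule.exists_forall_pow_toEnd_eq_zero k L L
  let Φ : L → Matrix σ σ k := fun x => lieMat eq a (m.e (Multiplicative.ofAdd x)).1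
  have hΦ0 : Φ 0 = 0 := by
    show lieMat eq a (m.e (Multiplicative.ofAdd (0 : L))).1 = 0
    rw [ofAdd_zero, map_one]
    exact lieMat_one eq h
  have hbr : ∀ x y, Φ ⁅x, y⁆ = Φ x * Φ y - Φ y * Φ x := fun x y => lieMat_bracket eq h _ _ _ (m.e_lie x y)
  have hit : ∀ (n : ℕ) x y, adN n (Φ x) (Φ y) = Φ (((LieModule.toEnd k L L x) ^ n) y) := by
    intro n
    induction n with
    | zero => intro x y; rfl
    | succ n ih =>
      intro x y
      rw [adN, Function.iterate_succ_apply', ← adN, ih, pow_succ', Module.End.mul_apply, LieModule.toEnd_apply_apply]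
      exact (hbr _ _).symm
  have hsur : ∀ w : A →ₗ[k] k, IsTangent k A w → ∃ x, Φ x = mat a w := by
    intro w hw
    let z : dpt k f₀ ⟶ G := (dptIso (R := k) k).hom ≫ Spec.mapMulEquiv (toConv (dualPt hw)) ≫ eq.inv
    have hev : evAt eq (dptIso (R := k) k) z = toConv (dualPt hw) := by
      simp only [evAt, z, Category.assoc, Iso.inv_hom_id_assoc, Iso.inv_hom_id, Category.comp_id,
        MulEquiv.symm_apply_apply]
    let e0 : pt k f₀ ≅ (Spec (CommRingCat.of k)).asOver (Spec (CommRingCat.of k)) :=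
      Over.isoMk (Iso.refl (Spec (CommRingCat.of k))) (Category.id_comp _)
    have hmem : z ∈ LieS.Lie G k f₀ := by
      rw [mem_Lie_iff, ← cancel_mono eq.hom, MonObj.one_comp, ← cancel_epi e0.inv, MonObj.comp_one]
      apply (Spec.mapMulEquiv (R := k) (S := A) (T := k)).symm.injective
      rw [map_one]
      refine WithConv.ofConv_injective (AlgHom.ext fun x => ?_)
      have e1 := evAt_comp eq (dptIso (R := k) k) e0 (TrivSqZeroExt.fstHom k k k).toRingHom (zeroSec k f₀) (by
        simp only [Over.comp_left]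
        show 𝟙 _ ≫ Spec.map _ ≫ 𝟙 _ = _
        rw [Category.id_comp, Category.comp_id]) z x
      rw [hev] at e1
      refine (show _ = (evAt eq e0 (zeroSec k f₀ ≫ z)).ofConv x from by simp only [evAt, Category.assoc]).trans
        (e1.trans ?_)
      simp [fst_dualPt, AlgHom.convOne_apply]
    refine ⟨Multiplicative.toAdd (m.e.symm ⟨z, hmem⟩), ?_⟩
    show lieMat eq a (m.e (Multiplicative.ofAdd _)).1 = _
    rw [ofAdd_toAdd, MulEquiv.apply_symm_apply]
    ext1 i j
    show ((evAt eq (dptIso (R := k) k) z).ofConv (a i j)).snd = w (a i j)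
    rw [hev]
    exact snd_dualPt hw _
  refine ⟨N, fun s v hs hv => ?_⟩
  obtain ⟨x, hx⟩ := hsur s hs
  obtain ⟨y, hy⟩ := hsur v hv
  rw [← hx, ← hy, hit, pow_succ', Module.End.mul_apply, hN x, LinearMap.zero_apply, map_zero, hΦ0]

end Main

end Groth.L24.TorusField
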