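import Groth.Agent.L24.TorusField.Criteria
import Groth.Agent.L19.IntegralHom
import Groth.Agent.L19.Topology

/-!
# Dimension of maximal tori
-/

set_option autoImplicit false
set_option backward.isDefEq.respectTransparency false
set_option backward.isDefEq.respectTransparency.types false
set_option linter.style.haveILetI false

universe u

open CategoryTheory CategoryTheory.Limits MonoidalCategory CartesianMonoidalCategory MonObj AlgebraicGeometry

noncomputable section

namespace Groth.L24.TorusField

variable {k : Type u} [Field k]

local notation "L" => AlgebraicClosure k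
local notation "θL" => Spec.map (CommRingCat.ofHom (algebraMap k (AlgebraicClosure k)))

/-- the dimension does not change on passing to the algebraic closure -/
theorem dim_bc_closure (X : Over (Spec (CommRingCat.of k))) :
    topologicalKrullDim (Red.bc θL X).left = topologicalKrullDim X.left := by
  haveI := (flat_θL (k := k)).2
  haveI hint : IsIntegralHom θL :=
    (IsIntegralHom.SpecMap_iff).2 fun x => Algebra.IsIntegral.isIntegral (R := k) (x : L)
  haveI : IsIntegralHom (pullback.fst X.hom θL) := MorphismProperty.pullback_fst _ _ hint
  haveI : Surjective (pullback.fst X.hom θL) := MorphismProperty.pullback_fst _ _ ‹Surjective θL›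
  exact le_antisymm (Groth.L19.topologicalKrullDim_le_of_isIntegralHom (pullback.fst X.hom θL))
    (Groth.L19.topologicalKrullDim_le_of_surjective_specializing (pullback.fst X.hom θL).surjective
      (pullback.fst X.hom θL).isClosedMap.specializingMap)

/-- maximal tori of a connected group have the same dimension -/
theorem dim_maxTorus_eq {G T T' : Over (Spec (CommRingCat.of k))} [GrpObj G] [GrpObj T] [GrpObj T']
    [IsAffine G.left] [Smooth G.hom] [ConnectedSpace G.left] {i : T ⟶ G} {i' : T' ⟶ G} (h : Red.IsMaximalTorus i)
    (h' : Red.IsMaximalTorus i') : topologicalKrullDim T.left = topologicalKrullDim T'.left := by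
  haveI : IsAffineHom G.hom := inferInstance
  haveI : IsAffineHom (Red.bc θL G).hom := inferInstanceAs (IsAffineHom (pullback.snd G.hom θL))
  haveI : IsAffine (Red.bc θL G).left := isAffine_of_isAffineHom (Red.bc θL G).hom
  haveI : Smooth (Red.bc θL G).hom := inferInstanceAs (Smooth (pullback.snd G.hom θL))
  haveI : ConnectedSpace (Red.bc θL G).left := by
    have hh := Groth.L25.Extension.isConnected_fibre_bc θL G isConnected_fibre (IsLocalRing.closedPoint L)
    rw [connectedSpace_iff_univ]
    refine (congrArg _root_.IsConnected ?_).mp hh
    exact Set.eq_univ_of_forall fun x => Subsingleton.elim (α := PrimeSpectrum L) _ _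
  obtain ⟨-, f, -⟩ := Groth.L08.Borel.exists_maxTorus_conj
    (Groth.L08.Borel.isMaxTorus_of_isMaximalTorus (Groth.L08.Borel.isMaximalTorus_bc h θL))
    (Groth.L08.Borel.isMaxTorus_of_isMaximalTorus (Groth.L08.Borel.isMaximalTorus_bc h' θL))
  rw [← dim_bc_closure T, ← dim_bc_closure T']
  exact (Scheme.homeoOfIso ((Over.forget _).mapIso f)).isHomeomorph.topologicalKrullDim_eq

end Groth.L24.TorusField
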