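import Groth.Agent.L24.TorusField.Criteria
import Groth.Agent.L08.AffHull.FiniteType
import Groth.Agent.L08.AffHull.AntiAffine
import Groth.Agent.L08.AffHull.Crit
import Groth.Agent.L08.AntiAffRigid
import Groth.Agent.L26.AV.GroupSep
import Groth.Agent.L08.Borel.CommTorusGlobal

/-!
# Maximal tori of smooth groups over a field, not necessarily affine
-/

set_option autoImplicit false
set_option backward.isDefEq.respectTransparency false
set_option backward.isDefEq.respectTransparency.types false
set_option linter.style.haveILetI false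

universe u

open CategoryTheory CategoryTheory.Limits MonoidalCategory CartesianMonoidalCategory MonObj GrpObj AlgebraicGeometry
open Groth.L08.AffHull (hull rho)

noncomputable section

namespace Groth.L24.TorusField

variable {k : Type u} [Field k]

local notation "L" => AlgebraicClosure k
local notation "θL" => Spec.map (CommRingCat.ofHom (algebraMap k (AlgebraicClosure k)))

/-- the trivial torus inside a group -/
theorem exists_trivial_torus (G : Over (Spec (CommRingCat.of k))) [GrpObj G] :
    ∃ (T : Over (Spec (CommRingCat.of k))) (_ : GrpObj T) (i : T ⟶ G), IsMonHom i ∧ Mono i ∧ Red.IsTorus T := by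
  let B := MonoidAlgebra k (Multiplicative (Fin 0 → ℤ))
  have hb : ∀ x : B, algebraMap k B (Coalgebra.counit x) = x := fun x =>
    DFunLike.congr_fun (show (Algebra.ofId k B).comp (Bialgebra.counitAlgHom k B) = AlgHom.id k B from
      MonoidAlgebra.algHom_ext' (MonoidHom.ext fun m => by
        obtain rfl : m = 1 := Subsingleton.elim _ _
        rw [map_one, map_one]) (Subsingleton.elim _ _)) x
  haveI : IsIso (CommRingCat.ofHom (algebraMap k B)) := (ConcreteCategory.isIso_iff_bijective _).2
    ⟨FaithfulSMul.algebraMap_injective k B, fun x => ⟨_, hb x⟩⟩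
  haveI hiso : IsIso (Groth.L25.Bridge.P k B).hom :=
    inferInstanceAs (IsIso (Spec.map (CommRingCat.ofHom (algebraMap k B))))
  have hsub : ∀ {X : Over (Spec (CommRingCat.of k))} (a b : X ⟶ Groth.L25.Bridge.P k B), a = b := fun a b =>
    Over.OverMorphism.ext (by rw [← cancel_mono (Groth.L25.Bridge.P k B).hom, Over.w, Over.w])
  have fin : ∀ (T₀ : Over (Spec (CommRingCat.of k))) [GrpObj T₀],
      (∀ {X : Over (Spec (CommRingCat.of k))} (a b : X ⟶ T₀), a = b) → Red.IsTorus T₀ →
      ∃ (T : Over (Spec (CommRingCat.of k))) (_ : GrpObj T) (i : T ⟶ G), IsMonHom i ∧ Mono i ∧ Red.IsTorus T :=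
    fun T₀ g₀ hs ht => ⟨T₀, g₀, 1, Groth.L25.Bridge.isMonHom_of_mul _ fun X a b => by
      rw [MonObj.comp_one, MonObj.comp_one, MonObj.comp_one, _root_.one_mul], ⟨fun a b _ => hs a b⟩, ht⟩
  exact fin _ hsub (Groth.L25.TorLift.isTorus_of_iso (Groth.L25.Bridge.dsIso k (Fin 0 → ℤ))
    (Groth.L08.Borel.isTorus_ds _ 0))

/-- the underlying scheme of a torus over an algebraically closed field -/
theorem torus_qc [IsAlgClosed k] {T : Over (Spec (CommRingCat.of k))} [GrpObj T] (hT : Red.IsTorus T) :
    QuasiCompact T.hom := by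
  haveI := (Groth.L08.Borel.torus_props hT).1
  infer_instance

/-- a monomorphism of tori which does not increase the dimension is an isomorphism -/
theorem isIso_of_dim_le [IsAlgClosed k] {T T' : Over (Spec (CommRingCat.of k))} [GrpObj T] [GrpObj T'] (f : T ⟶ T')
    [IsMonHom f] [Mono f] (hT : Red.IsTorus T) (hT' : Red.IsTorus T') {n m : ℕ}
    (hn : topologicalKrullDim T.left = (n : WithBot ℕ∞)) (hm : topologicalKrullDim T'.left = (m : WithBot ℕ∞))
    (hle : m ≤ n) : IsIso f := by
  have hT'props := Groth.L25.Locus.smooth_connected_torus hT'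
  haveI := hT'props.1; haveI := hT'props.2
  haveI := torus_qc hT'
  haveI := Groth.Agent.AV.isSeparated_of_grpObj T'
  haveI : IsLocallyNoetherian T'.left := LocallyOfFiniteType.isLocallyNoetherian T'.hom
  haveI := Groth.L25.MonoClosed.isClosedImmersion_of_mono (Groth.L25.Locus.isMultTypeFT_of_isTorus hT) f
  have hsur : Surjective f.left := by
    by_contra hsur
    have hirr : IrreducibleSpace T'.left := Groth.L25.Component.irreducibleSpace T'
    have hlt := Groth.Agent.S11667.dim_lt (f.left.isClosedEmbedding).isClosed_range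
      (IrreducibleSpace.isIrreducible_univ T'.left) (Set.subset_univ (Set.range f.left))
      (fun h => hsur ⟨fun x => h (Set.mem_univ x)⟩) (by
        rw [(Homeomorph.Set.univ _).isHomeomorph.topologicalKrullDim_eq, hm]
        exact WithBot.coe_lt_coe.2 (ENat.natCast_lt_top m))
    rw [(Homeomorph.Set.univ _).isHomeomorph.topologicalKrullDim_eq, hm,
      ← (f.left.isClosedEmbedding).isEmbedding.toHomeomorph.isHomeomorph.topologicalKrullDim_eq, hn] at hlt
    have : n < m := by exact_mod_cast hlt
    omega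
  haveI := hsur
  haveI : IsReduced T'.left := Groth.Agent.AV.isReduced_of_smooth_field T'.hom
  haveI : IsIso f.left := isIso_of_isClosedImmersion_of_surjective _
  haveI : IsIso ((Over.forget _).map f) := ‹IsIso f.left›
  exact isIso_of_reflects_iso f (Over.forget _)

theorem exists_dim_torus [IsAlgClosed k] {T : Over (Spec (CommRingCat.of k))} [GrpObj T] (hT : Red.IsTorus T) :
    ∃ n : ℕ, topologicalKrullDim T.left = (n : WithBot ℕ∞) := by
  haveI := (Groth.L25.Locus.smooth_connected_torus hT).1
  haveI := torus_qc hT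
  obtain ⟨n, -, hn⟩ := Groth.L08.GrpDim.exists_dim (G := T)
  exact ⟨n, hn⟩

theorem dim_le_of_mono [IsAlgClosed k] {T G : Over (Spec (CommRingCat.of k))} [GrpObj T] [GrpObj G]
    [LocallyOfFiniteType G.hom] [QuasiCompact G.hom] (i : T ⟶ G) [IsMonHom i] [Mono i] (hT : Red.IsTorus T) :
    topologicalKrullDim T.left ≤ topologicalKrullDim G.left := by
  haveI := Groth.Agent.AV.isSeparated_of_grpObj G
  haveI := Groth.L25.MonoClosed.isClosedImmersion_of_mono (Groth.L25.Locus.isMultTypeFT_of_isTorus hT) i
  exact i.left.isClosedEmbedding.isInducing.topologicalKrullDim_le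

/-- dimensions of subtori -/
def HasTorusDim (G : Over (Spec (CommRingCat.of k))) [GrpObj G] (n : ℕ) : Prop :=
  ∃ (T : Over (Spec (CommRingCat.of k))) (_ : GrpObj T) (i : T ⟶ G),
    IsMonHom i ∧ Mono i ∧ Red.IsTorus T ∧ topologicalKrullDim T.left = (n : WithBot ℕ∞)

/-- a bounded non-empty set of natural numbers has a greatest element -/
theorem exists_greatest_nat {P : ℕ → Prop} (N : ℕ) (hN : ∀ n, P n → n ≤ N) {n₀ : ℕ} (h₀ : P n₀) :
    ∃ n, P n ∧ ∀ m, P m → m ≤ n := by
  classical
  exact ⟨Nat.findGreatest P N, Nat.findGreatest_spec (hN n₀ h₀) h₀, fun m hm => Nat.le_findGreatest (hN m hm) hm⟩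

/-- a subtorus of largest dimension is a maximal subtorus -/
theorem exists_isMaxTorus_general [IsAlgClosed k] (G : Over (Spec (CommRingCat.of k))) [GrpObj G]
    [LocallyOfFiniteType G.hom] [QuasiCompact G.hom] :
    ∃ (T : Over (Spec (CommRingCat.of k))) (_ : GrpObj T) (i : T ⟶ G), AGF.IsMaxTorus i := by
  obtain ⟨N, -, hN⟩ := Groth.L08.GrpDim.exists_dim (G := G)
  have hbound : ∀ n, HasTorusDim G n → n ≤ N := by
    rintro n ⟨T, gT, i, h1, h2, hT, hn⟩
    haveI := h1; haveI := h2
    have h := dim_le_of_mono i hT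
    rw [hn, hN] at h
    exact_mod_cast h
  obtain ⟨T₀, g₀, i₀, h01, h02, hT₀⟩ := exists_trivial_torus G
  obtain ⟨n₀, hn₀⟩ := exists_dim_torus hT₀
  have hQ₀ : HasTorusDim G n₀ := ⟨T₀, g₀, i₀, h01, h02, hT₀, hn₀⟩
  obtain ⟨n₁, hn₁, hmax⟩ := exists_greatest_nat N hbound hQ₀
  obtain ⟨T, gT, i, h1, h2, hT, hn⟩ := hn₁
  haveI := h1; haveI := h2
  refine ⟨T, gT, i, h1, h2, hT, fun T' gT' j hj hjm f hT' hf => ?_⟩
  haveI := hj; haveI := hjm
  haveI : Mono f := mono_of_mono_fac hf
  haveI : IsMonHom f := Groth.L08.Borel.isMonHom_of_comp_mono f j i hf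
  obtain ⟨m, hm⟩ := exists_dim_torus hT'
  have hQ : HasTorusDim G m := ⟨T', gT', j, hj, hjm, hT', hm⟩
  exact isIso_of_dim_le f hT hT' hn hm (hmax m hQ)

/-- maps over a field agree if they agree after an extension of the field -/
theorem bc_map_injective {K : Type u} [Field K] (θ : Spec (CommRingCat.of K) ⟶ Spec (CommRingCat.of k))
    {X Y : Over (Spec (CommRingCat.of k))} {a b : X ⟶ Y} (h : (Over.pullback θ).map a = (Over.pullback θ).map b) :
    a = b := by
  obtain ⟨hs, hfl, hq⟩ := Groth.L08.Borel.bc_props_field θ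
  haveI : Surjective (pullback.fst X.hom θ) := MorphismProperty.pullback_fst _ _ hs
  haveI : Flat (pullback.fst X.hom θ) := MorphismProperty.pullback_fst _ _ hfl
  haveI : QuasiCompact (pullback.fst X.hom θ) := MorphismProperty.pullback_fst _ _ hq
  haveI : Epi (pullback.fst X.hom θ) := Flat.epi_of_flat_of_surjective _
  have e : ((Over.pullback θ).map a).left ≫ pullback.fst Y.hom θ = ((Over.pullback θ).map b).left ≫ pullback.fst Y.hom θ := by
    rw [h]
  simp only [Over.pullback_map_left, pullback.lift_fst] at e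
  exact Over.OverMorphism.ext ((cancel_epi (pullback.fst X.hom θ)).1 e)

/-- anti-affineness is inherited by base change -/
theorem isIso_appTop_bc {K : Type u} [Field K] (θ : Spec (CommRingCat.of K) ⟶ Spec (CommRingCat.of k))
    (M : Over (Spec (CommRingCat.of k))) [GrpObj M] [LocallyOfFiniteType M.hom] [QuasiCompact M.hom]
    [IsIso M.hom.appTop] : IsIso (Red.bc θ M).hom.appTop := by
  haveI := Groth.L08.AffHull.compactSpace (G := M)
  haveI := Groth.L08.AffHull.quasiSeparatedSpace (G := M)
  haveI : IsIso (hull M).hom :=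
    inferInstanceAs (IsIso (Spec.map M.hom.appTop ≫ (Spec (CommRingCat.of k)).isoSpec.inv))
  let X : Over (Spec (CommRingCat.of k)) := Over.mk θ
  haveI : IsAffine X.left := inferInstanceAs (IsAffine (Spec (CommRingCat.of K)))
  haveI := Groth.L08.AffHull.isIso_appTop_whiskerLeft M X
  haveI h1 : IsIso (fst X (hull M)).left := inferInstanceAs (IsIso (pullback.fst X.hom (hull M).hom))
  haveI h2 : IsIso (fst X (hull M)).left.appTop := inferInstanceAs (IsIso ((fst X (hull M)).left.app ⊤))
  have e : (Red.bc θ M).hom = (pullbackSymmetry M.hom θ).hom ≫ (X ◁ rho M).left ≫ (fst X (hull M)).left := by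
    rw [← Over.comp_left, whiskerLeft_fst]
    exact (pullbackSymmetry_hom_comp_fst M.hom θ).symm
  haveI h3 : IsIso (pullbackSymmetry M.hom θ).hom.appTop :=
    inferInstanceAs (IsIso ((pullbackSymmetry M.hom θ).hom.app ⊤))
  rw [e]
  simp only [Scheme.Hom.comp_appTop]
  exact IsIso.comp_isIso' (IsIso.comp_isIso' h2 inferInstance) h3

/-- an anti-affine subgroup of a connected group over an algebraically closed field is central -/
theorem central_of_antiAffine_algClosed [IsAlgClosed k] {M C : Over (Spec (CommRingCat.of k))} [GrpObj M] [GrpObj C]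
    [LocallyOfFiniteType M.hom] [QuasiCompact M.hom] [LocallyOfFiniteType C.hom] [QuasiCompact C.hom]
    [ConnectedSpace C.left] (hM : IsIso M.hom.appTop) (j : M ⟶ C) [IsMonHom j]
    {X : Over (Spec (CommRingCat.of k))} (x : X ⟶ M) (g : X ⟶ C) : (x ≫ j) * g = g * (x ≫ j) := by
  haveI := Groth.Agent.AV.isSeparated_of_grpObj C
  let f : M ⊗ C ⟶ C := (fst M C ≫ j) * snd M C * (fst M C ≫ j)⁻¹ * (snd M C)⁻¹
  have hfpt : ∀ {Y : Over (Spec (CommRingCat.of k))} (y : Y ⟶ M) (h : Y ⟶ C),
      lift y h ≫ f = (y ≫ j) * h * (y ≫ j)⁻¹ * h⁻¹ := fun y h => by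
    simp only [f, MonObj.comp_mul, GrpObj.comp_inv, lift_fst_assoc, lift_snd]
  obtain ⟨g', hg', -⟩ := Groth.L08.AntiAffRigid.existsUnique_factor_snd
    ((Groth.L08.AffHull.bijective_iff_isIso M).2 hM) f η[C] η[C] (by
      rw [show M ◁ η[C] = lift (fst M _) (snd M (𝟙_ (Over (Spec (CommRingCat.of k)))) ≫ η[C]) from
          CartesianMonoidalCategory.hom_ext _ _ (by simp) (by simp), hfpt,
        show snd M (𝟙_ (Over (Spec (CommRingCat.of k)))) ≫ η[C] = 1 from by
          rw [Hom.one_def, Subsingleton.elim (snd M (𝟙_ (Over (Spec (CommRingCat.of k))))) (toUnit _)],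
        _root_.mul_one, mul_inv_cancel, inv_one, _root_.one_mul, Hom.one_def])
  have hg : g' = 1 := by
    have e := congrArg (fun w => lift (1 : C ⟶ M) (𝟙 C) ≫ w) hg'
    rw [hfpt, MonObj.one_comp, _root_.one_mul, inv_one, _root_.mul_one, mul_inv_cancel, lift_snd_assoc,
      Category.id_comp] at e
    exact e.symm
  have e := hfpt x g
  rw [hg', hg, MonObj.comp_one, MonObj.comp_one] at e
  rw [eq_comm, mul_inv_eq_one, mul_inv_eq_iff_eq_mul] at e
  exact e

/-- an anti-affine subgroup of a connected group is central -/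
theorem central_of_antiAffine {M C : Over (Spec (CommRingCat.of k))} [GrpObj M] [GrpObj C]
    [LocallyOfFiniteType M.hom] [QuasiCompact M.hom] [LocallyOfFiniteType C.hom] [QuasiCompact C.hom]
    [ConnectedSpace C.left] [IsIso M.hom.appTop] (j : M ⟶ C) [IsMonHom j]
    {X : Over (Spec (CommRingCat.of k))} (x : X ⟶ M) (g : X ⟶ C) : (x ≫ j) * g = g * (x ≫ j) := by
  apply bc_map_injective θL
  haveI : IsMonHom ((Over.pullback θL).map j) := Groth.L25.MonoClosed.isMonHom_pullbackMap _ _
  haveI : LocallyOfFiniteType (Red.bc θL M).hom := inferInstanceAs (LocallyOfFiniteType (pullback.snd M.hom θL))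
  haveI : QuasiCompact (Red.bc θL M).hom := inferInstanceAs (QuasiCompact (pullback.snd M.hom θL))
  haveI : LocallyOfFiniteType (Red.bc θL C).hom := inferInstanceAs (LocallyOfFiniteType (pullback.snd C.hom θL))
  haveI : QuasiCompact (Red.bc θL C).hom := inferInstanceAs (QuasiCompact (pullback.snd C.hom θL))
  haveI : ConnectedSpace (Red.bc θL C).left := by
    have hh := Groth.L25.Extension.isConnected_fibre_bc θL C isConnected_fibre (IsLocalRing.closedPoint L)
    rw [connectedSpace_iff_univ]
    refine (congrArg _root_.IsConnected ?_).mp hh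
    exact Set.eq_univ_of_forall fun y => Subsingleton.elim (α := PrimeSpectrum L) _ _
  rw [Groth.L08.Borel.bc_map_mul, Groth.L08.Borel.bc_map_mul, Functor.map_comp]
  exact central_of_antiAffine_algClosed (isIso_appTop_bc θL M) _ _ _

/-- maximal tori of the identity component are maximal in the group -/
theorem isMaximalTorus_comp_idComp {G C T : Over (Spec (CommRingCat.of k))} [GrpObj G] [GrpObj C] [GrpObj T]
    {j : C ⟶ G} (hj : Groth.L08.Chev.IdCompData j) {i : T ⟶ C} (hT : Red.IsMaximalTorus i) :
    Red.IsMaximalTorus (i ≫ j) := by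
  haveI := hj.hom; haveI := hj.closedImm; haveI := hj.openImm
  haveI := hT.1; haveI := hT.2.1
  haveI : Mono j := Groth.L08.mono_of_closedImmersion j
  refine ⟨inferInstance, mono_comp _ _, hT.2.2.1, fun s T' _ a _ _ f hT' hf => ?_⟩
  let F := Over.pullback (Red.geomPt s)
  haveI := (Groth.L25.Locus.smooth_connected_torus hT').2
  haveI hjo : IsOpenImmersion (F.map j).left :=
    MorphismProperty.of_isPullback (Groth.L25.SchImage.isPullback_fst_map (Red.geomPt s) j) hj.openImm
  haveI hjc : IsClosedImmersion (F.map j).left :=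
    MorphismProperty.of_isPullback (Groth.L25.SchImage.isPullback_fst_map (Red.geomPt s) j) hj.closedImm
  haveI : IsMonHom (F.map j) := Groth.L25.MonoClosed.isMonHom_pullbackMap _ _
  have hone : a.left (Groth.L25.Component.one T') ∈ Set.range (F.map j).left := by
    refine ⟨Groth.L25.Component.one (Red.geomFibre s C), ?_⟩
    have e1 : (η : 𝟙_ _ ⟶ Red.geomFibre s C) ≫ F.map j = η := IsMonHom.one_hom (F.map j)
    have e2 : (η : 𝟙_ _ ⟶ T') ≫ a = η := IsMonHom.one_hom a
    exact (congr(($e1).left (IsLocalRing.closedPoint _))).trans (congr(($e2).left (IsLocalRing.closedPoint _))).symm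
  have hsub : Set.range a.left ⊆ Set.range (F.map j).left := by
    obtain ⟨y, hy⟩ := hone
    refine (isPreconnected_range a.left.continuous).subset_isClopen
      ⟨(F.map j).left.isClosedEmbedding.isClosed_range, (F.map j).left.isOpenEmbedding.isOpen_range⟩
      ⟨_, Set.mem_range_self _, ⟨y, hy⟩⟩
  let aC : T' ⟶ Red.geomFibre s C := Over.homMk (IsOpenImmersion.lift (F.map j).left a.left hsub) (by
    rw [← Over.w (F.map j), IsOpenImmersion.lift_fac_assoc]; exact Over.w a)
  have haC : aC ≫ F.map j = a := Over.OverMorphism.ext (IsOpenImmersion.lift_fac _ _ _)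
  haveI : Mono (F.map j) := Functor.map_mono _ _
  haveI : IsMonHom aC := Groth.L08.Borel.isMonHom_of_comp_mono aC (F.map j) a haC
  haveI : Mono aC := mono_of_mono_fac haC
  exact hT.2.2.2 s T' aC f hT' (by rw [← cancel_mono (F.map j), Category.assoc, haC, hf, Functor.map_comp])

/-- a smooth connected group over a field has a maximal torus -/
theorem exists_maximalTorus_connected_general (C : Over (Spec (CommRingCat.of k))) [GrpObj C] [Smooth C.hom]
    [QuasiCompact C.hom] [ConnectedSpace C.left] : Good C := by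
  haveI : LocallyOfFiniteType C.hom := inferInstance
  haveI := Groth.Agent.AV.isSeparated_of_grpObj C
  haveI := Groth.L08.AffHull.compactSpace (G := C)
  haveI := Groth.L08.AffHull.quasiSeparatedSpace (G := C)
  obtain ⟨hl, hs, hf, hp⟩ := Groth.L08.AffHull.hull_props (G := C)
  haveI := hl; haveI := hs; haveI := hf; haveI := hp
  haveI : IsAffine (hull C).left := inferInstanceAs (IsAffine (Spec Γ(C.left, ⊤)))
  haveI : LocallyOfFinitePresentation (hull C).hom := inferInstance
  haveI : IsAffineHom (hull C).hom := inferInstance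
  haveI : Smooth (hull C).hom :=
    Groth.L23.FppfSmooth.smooth_of_fppf_comp (rho C).left (hull C).hom (by rw [Over.w (rho C)]; infer_instance)
  obtain ⟨M, gM, j, hjm, hjc, -, hker⟩ := Groth.L08.AbelianGrp.exists_kernel (rho C)
  haveI := hjm; haveI := hjc
  haveI : LocallyOfFiniteType M.hom := by rw [← Over.w j]; infer_instance
  haveI : QuasiCompact M.hom := by rw [← Over.w j]; infer_instance
  haveI : IsIso M.hom.appTop := Groth.L08.AffHull.isIso_appTop_kernel j hker
  haveI := (flat_θL (k := k)).1; haveI := (flat_θL (k := k)).2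
  haveI : Smooth (Red.bc θL C).hom := inferInstanceAs (Smooth (pullback.snd C.hom θL))
  haveI : QuasiCompact (Red.bc θL C).hom := inferInstanceAs (QuasiCompact (pullback.snd C.hom θL))
  obtain ⟨T₁, gT₁, i₁, hi₁⟩ := exists_isMaxTorus_general (Red.bc θL C)
  obtain ⟨T', gT', i', hT'⟩ := exists_maximalTorus_affine (hull C)
  obtain ⟨T, gT, i, v, hT, -⟩ := Groth.L08.Borel.exists_lift_maximalTorus
    ⟨_, θL, inferInstance, inferInstance, cover_θL, T₁, gT₁, i₁,
      Groth.L08.Borel.isMaximalTorus_of_isMaxTorus hi₁⟩ (rho C)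
    (fun s => Groth.L08.Borel.surjective_bcMap _ (rho C))
    (fun X z hz X' x g => by
      obtain ⟨c, rfl, -⟩ := hker.exists_lift z (toUnit X) (by rw [hz, Hom.one_def])
      rw [← Category.assoc]
      exact central_of_antiAffine j (x ≫ c) g) hT'
  exact ⟨T, gT, i, hT⟩

/-- a smooth group of finite type over a field has a maximal torus -/
theorem exists_maximalTorus (G : Over (Spec (CommRingCat.of k))) [GrpObj G] [Smooth G.hom] [QuasiCompact G.hom] :
    Good G := by
  haveI : LocallyOfFiniteType G.hom := inferInstance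
  obtain ⟨C, gC, j, hj⟩ := Groth.L08.Chev.exists_idComp G
  haveI := hj.smooth; haveI := hj.quasiCompact; haveI := hj.connectedSpace
  obtain ⟨T, gT, i, hT⟩ := exists_maximalTorus_connected_general C
  exact ⟨T, gT, i ≫ j, isMaximalTorus_comp_idComp hj hT⟩

end Groth.L24.TorusField
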