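import Mathlib.RingTheory.Bialgebra.TensorProduct
import Mathlib.RingTheory.Bialgebra.MonoidAlgebra
import Mathlib.RingTheory.HopfAlgebra.Basic
import Mathlib.Data.ZMod.Basic

/-!
# Quotients to groups of roots of unity
-/

set_option autoImplicit false

universe u

open TensorProduct

noncomputable section

namespace Groth.L24.TorusField

variable {k : Type u} [Field k] {B : Type u} [CommRing B] [HopfAlgebra k B]

/-- a group containing a non-trivial torus contains all groups of roots of unity, geometrically -/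
theorem exists_mu_quotient {A : Type u} [CommRing A] [HopfAlgebra k A] {K : Type u} [Field K] [Algebra k K] {r : ℕ}
    (hr : 0 < r) (m : ℕ) (φ : A →ₐc[k] B) (hφ : Function.Surjective φ)
    (d : K ⊗[k] B ≃ₐc[K] MonoidAlgebra K (Multiplicative (Fin r → ℤ))) :
    ∃ ψ : K ⊗[k] A →ₐc[K] MonoidAlgebra K (Multiplicative (ZMod m)), Function.Surjective ψ := by
  let g : (Fin r → ℤ) →+ ZMod m := (Int.castAddHom (ZMod m)).comp (Pi.evalAddMonoidHom _ ⟨0, hr⟩)
  let red : MonoidAlgebra K (Multiplicative (Fin r → ℤ)) →ₐc[K] MonoidAlgebra K (Multiplicative (ZMod m)) :=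
    MonoidAlgebra.mapDomainBialgHom K g.toMultiplicative
  have hred : Function.Surjective red := by
    intro y
    induction y using MonoidAlgebra.induction_on with
    | of x =>
      obtain ⟨z, hz⟩ := ZMod.intCast_surjective x.toAdd
      refine ⟨MonoidAlgebra.single (Multiplicative.ofAdd fun _ => z) 1, ?_⟩
      have hgz : g.toMultiplicative (Multiplicative.ofAdd fun _ => z) = x :=
        Multiplicative.toAdd.injective hz
      simp [red, hgz]
    | add a b ha hb =>
      obtain ⟨a, rfl⟩ := ha
      obtain ⟨b, rfl⟩ := hb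
      exact ⟨a + b, map_add _ _ _⟩
    | smul c a ha =>
      obtain ⟨a, rfl⟩ := ha
      exact ⟨c • a, map_smul _ _ _⟩
  let φL : K ⊗[k] A →ₐc[K] K ⊗[k] B := Bialgebra.TensorProduct.map (BialgHom.id K K) φ
  have hφL : Function.Surjective φL := by
    intro y
    induction y using TensorProduct.induction_on with
    | zero => exact ⟨0, map_zero _⟩
    | add a b ha hb =>
      obtain ⟨a, rfl⟩ := ha
      obtain ⟨b, rfl⟩ := hb
      exact ⟨a + b, map_add _ _ _⟩
    | tmul c b =>
      obtain ⟨a, rfl⟩ := hφ b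
      exact ⟨c ⊗ₜ[k] a, by simp only [φL, Bialgebra.TensorProduct.map_tmul]; rfl⟩
  let dh : K ⊗[k] B →ₐc[K] MonoidAlgebra K (Multiplicative (Fin r → ℤ)) := d
  have hdh : Function.Surjective dh := d.surjective
  exact ⟨(red.comp dh).comp φL, fun y => by
    obtain ⟨y₁, rfl⟩ := hred y
    obtain ⟨y₂, rfl⟩ := hdh y₁
    obtain ⟨y₃, rfl⟩ := hφL y₂
    exact ⟨y₃, rfl⟩⟩

end Groth.L24.TorusField
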