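import Groth.Agent.L24.TorusField.Dim
import Groth.Agent.L24.TorusField.Mu
import Groth.Agent.L25.Char.AdicConnected
import Groth.Agent.L25.Char.LocalGlobal
import Groth.Agent.L01.Unip.Affine

/-!
# Tori over a field in Hopf form
-/

set_option autoImplicit false
set_option backward.isDefEq.respectTransparency false
set_option backward.isDefEq.respectTransparency.types false
set_option linter.style.haveILetI false

universe u

open CategoryTheory CategoryTheory.Limits MonoidalCategory CartesianMonoidalCategory MonObj AlgebraicGeometry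
open TensorProduct
open Groth.L25.Bridge (P)

noncomputable section

namespace Groth.L24.TorusField

variable {k : Type u} [Field k] {B : Type u} [CommRing B] [HopfAlgebra k B]

local notation "L" => AlgebraicClosure k
local notation "θL" => Spec.map (CommRingCat.ofHom (algebraMap k (AlgebraicClosure k)))

theorem isTorus_P_of_sga3b (h : SGA3b.IsTorus k B) : Red.IsTorus (P k B) := by
  obtain ⟨K, _, _, n, ⟨d⟩⟩ := Groth.L25.Char.exists_field_split_torus h
  let θ := Spec.map (CommRingCat.ofHom (algebraMap k K))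
  haveI : Flat θ := Flat.SpecMap_iff.2 (RingHom.flat_algebraMap_iff.2 inferInstance)
  haveI : Surjective θ := ⟨fun _ => ⟨IsLocalRing.closedPoint K, Subsingleton.elim (α := PrimeSpectrum k) _ _⟩⟩
  refine Groth.L08.Borel.isTorus_descend θ (fun V hV => ⟨θ ⁻¹ᵁ V, θ.isCompact_preimage hV.isCompact,
    Set.image_preimage_eq (V : Set (Spec (CommRingCat.of k))) θ.surjective⟩) ?_
  exact Groth.L25.TorLift.isTorus_of_iso ((Groth.L25.Bridge.bcIso k B K) ≪≫ (Groth.L25.Bridge.mapIso
    (d.trans (Groth.L25.Char.mapEquiv (N := Multiplicative (Fin n → ℤ)) K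
      (AddEquiv.toMultiplicative AddEquiv.ulift)))).symm).symm (Groth.L01.Unip.isTorus_P_fin K n)

/-- the Laurent form of a torus over the algebraic closure -/
theorem exists_laurent_closure (h : Red.IsTorus (P k B)) :
    ∃ n : ℕ, Nonempty (L ⊗[k] B ≃ₐc[L] MonoidAlgebra L (Multiplicative (Fin n → ℤ))) := by
  obtain ⟨n, ⟨e⟩⟩ := Groth.L08.Borel.exists_laurent_of_torus
    (Groth.L25.TorLift.isTorus_of_iso (Groth.L25.Bridge.bcIso k B L) (Groth.L25.Locus.isTorus_bc h θL))
  obtain ⟨d⟩ := Groth.L25.Bridge.exists_bialgEquiv e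
  exact ⟨n, ⟨d.symm⟩⟩

theorem sga3b_of_isTorus_P (h : Red.IsTorus (P k B)) : SGA3b.IsTorus k B := by
  obtain ⟨n, ⟨d⟩⟩ := exists_laurent_closure h
  refine Groth.L25.Char.isTorus_of_type (T := L) (M := Multiplicative (ULift.{u} (Fin n → ℤ)))
    (d.trans (Groth.L25.Char.mapEquiv L (AddEquiv.toMultiplicative AddEquiv.ulift.symm))) n fun S _ _ =>
    ⟨Groth.L25.Char.mapEquiv S (AddEquiv.toMultiplicative AddEquiv.ulift)⟩

end Groth.L24.TorusField
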