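import Groth.Agent.L24.TorusField.Universal
import Groth.Agent.S5247
import Groth.Agent.S8398
import Groth.Agent.S11667
import Groth.Agent.L25.LargestMult.Scheme
import Groth.Agent.L08.Chev.Comp
import Groth.Agent.L08.GrpDim
import Groth.Agent.L08.Borel.MaxTorusBC

/-!
# A smaller subgroup with the same maximal tori
-/

set_option autoImplicit false
set_option backward.isDefEq.respectTransparency false
set_option backward.isDefEq.respectTransparency.types false
set_option linter.style.haveILetI false

universe u

open CategoryTheory CategoryTheory.Limits MonoidalCategory CartesianMonoidalCategory MonObj AlgebraicGeometry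
open TensorProduct WithConv
open Groth.L25.Bridge (P)
open Groth.L08.TorusQuot (sp sp_left)

noncomputable section

namespace Groth.L24.TorusField

open Groth.L08 Groth.L08.AugGraded

variable {k : Type u} [Field k]

theorem isConnected_fibre {G : Over (Spec (CommRingCat.of k))} [ConnectedSpace G.left] (s : Spec (CommRingCat.of k)) :
    _root_.IsConnected (G.hom.base ⁻¹' {s}) := by
  rw [show G.hom.base ⁻¹' {s} = Set.univ from
    Set.eq_univ_of_forall fun x => Subsingleton.elim (α := PrimeSpectrum k) _ _]
  exact isConnected_univ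

/-- maximal tori of the neutral component of the centralizer of a connected subgroup of multiplicative type -/
theorem isMaximalTorus_comp_centralizer {G H Z C T : Over (Spec (CommRingCat.of k))} [GrpObj G] [GrpObj H]
    [GrpObj Z] [GrpObj C] [GrpObj T] [IsAffine G.left] [Smooth G.hom] {u : H ⟶ G} [IsMonHom u]
    (hH : SGA3x.IsMultTypeFT H) [ConnectedSpace H.left] {z : Z ⟶ G} [IsClosedImmersion z.left] [Smooth Z.hom]
    (hZ : Red.IsCentralizerOf u z) {j : C ⟶ Z} (hj : Groth.L08.Chev.IdCompData j)
    {i : T ⟶ C} (hT : Red.IsMaximalTorus i) : Red.IsMaximalTorus (i ≫ j ≫ z) := by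
  haveI := hZ.1; haveI := hZ.2.1; haveI := hj.hom; haveI := hj.closedImm; haveI := hj.openImm
  haveI := hT.1; haveI := hT.2.1
  haveI : IsAffineHom G.hom := inferInstance
  haveI : IsAffine Z.left := isAffine_of_isAffineHom z.left
  haveI := hj.smooth; haveI := hj.isAffine; haveI := hj.connectedSpace
  haveI : IsAffineHom C.hom := inferInstance
  haveI : Mono j := Groth.L08.mono_of_closedImmersion j
  have hcomm := fun (X : Over (Spec (CommRingCat.of k))) (a b : X ⟶ H) =>
    Groth.L25.Central.mul_comm_of_multTypeFT hH a b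
  -- the subgroup lies in the component and is central there
  obtain ⟨uZ, huZ⟩ := (hZ.2.2 H u).2 fun X' x h => by
    rw [← MonObj.mul_comp, ← MonObj.mul_comp, hcomm]
  haveI : IsMonHom uZ := Groth.L08.Borel.isMonHom_of_comp_mono uZ z u huZ
  obtain ⟨uC, huC⟩ := hj.exists_lift_hom uZ
  haveI : IsMonHom uC := Groth.L08.Borel.isMonHom_of_comp_mono uC j uZ huC
  have hfull : uC ≫ j ≫ z = u := by rw [reassoc_of% huC, huZ]
  haveI : Mono (j ≫ z) := inferInstance
  have hcent : ∀ (X : Over (Spec (CommRingCat.of k))) (x : X ⟶ H) (g : X ⟶ C),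
      (x ≫ uC) * g = g * (x ≫ uC) := by
    intro X x g
    have e := (hZ.2.2 X (g ≫ j ≫ z)).1 ⟨g ≫ j, by rw [Category.assoc]⟩ X (𝟙 X) x
    rw [Category.id_comp] at e
    rw [← cancel_mono (j ≫ z), MonObj.mul_comp, MonObj.mul_comp, Category.assoc, hfull]
    exact e.symm
  obtain ⟨w, hw⟩ := Groth.Agent.S8398.result _ C isConnected_fibre T i hT H hH uC hcent
  haveI : IsMonHom (i ≫ j ≫ z) := inferInstance
  haveI : Mono (i ≫ j ≫ z) := inferInstance
  refine ⟨inferInstance, inferInstance, hT.2.2.1, fun s T' _ a _ _ f hT' hf => ?_⟩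
  let F := Over.pullback (Red.geomPt s)
  haveI : Mono (F.map (j ≫ z)) := Functor.map_mono _ _
  have hsmT' := Groth.L25.Locus.smooth_connected_torus hT'
  haveI := hsmT'.2
  have hf' : f ≫ a = F.map i ≫ F.map j ≫ F.map z := by
    rw [hf, ← Functor.map_comp, ← Functor.map_comp]
  -- the bigger torus commutes with the subgroup
  have hZs := Groth.L08.Borel.isCentralizerOf_bc (Red.geomPt s) hZ
  obtain ⟨aZ, haZ⟩ := (hZs.2.2 T' a).2 fun X' x h => by
    have e : h ≫ F.map u = (h ≫ F.map w ≫ f) ≫ a := by
      rw [← hfull, ← hw]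
      simp only [Category.assoc, Functor.map_comp]
      rw [hf']
    rw [e, ← MonObj.mul_comp, ← MonObj.mul_comp,
      Groth.L25.Central.mul_comm_of_multTypeFT (Groth.L25.Locus.isMultTypeFT_of_isTorus hT')]
  haveI : IsMonHom (F.map z) := hZs.1
  haveI : Mono (F.map z) := hZs.2.1
  haveI : IsMonHom aZ := Groth.L08.Borel.isMonHom_of_comp_mono aZ (F.map z) a haZ
  haveI : IsMonHom (F.map j) := Groth.L25.MonoClosed.isMonHom_pullbackMap _ _
  haveI : IsMonHom (F.map i) := Groth.L25.MonoClosed.isMonHom_pullbackMap _ _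
  haveI hjo : IsOpenImmersion (F.map j).left :=
    MorphismProperty.of_isPullback (Groth.L25.SchImage.isPullback_fst_map (Red.geomPt s) j) hj.openImm
  haveI hjc : IsClosedImmersion (F.map j).left :=
    MorphismProperty.of_isPullback (Groth.L25.SchImage.isPullback_fst_map (Red.geomPt s) j) hj.closedImm
  -- it lands in the component
  have hone : aZ.left (Groth.L25.Component.one T') ∈ Set.range (F.map j).left := by
    refine ⟨Groth.L25.Component.one (Red.geomFibre s C), ?_⟩
    have e1 : (η : 𝟙_ _ ⟶ Red.geomFibre s C) ≫ F.map j = η := IsMonHom.one_hom (F.map j)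
    have e2 : (η : 𝟙_ _ ⟶ T') ≫ aZ = η := IsMonHom.one_hom aZ
    exact (congr(($e1).left (IsLocalRing.closedPoint _))).trans (congr(($e2).left (IsLocalRing.closedPoint _))).symm
  have hsub : Set.range aZ.left ⊆ Set.range (F.map j).left := by
    obtain ⟨y, hy⟩ := hone
    refine (isPreconnected_range aZ.left.continuous).subset_isClopen
      ⟨(F.map j).left.isClosedEmbedding.isClosed_range, (F.map j).left.isOpenEmbedding.isOpen_range⟩
      ⟨_, Set.mem_range_self _, ⟨y, hy⟩⟩
  let aC : T' ⟶ Red.geomFibre s C := Over.homMk (IsOpenImmersion.lift (F.map j).left aZ.left hsub) (by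
    rw [← Over.w (F.map j), IsOpenImmersion.lift_fac_assoc]; exact Over.w aZ)
  have haC : aC ≫ F.map j = aZ := Over.OverMorphism.ext (IsOpenImmersion.lift_fac _ _ _)
  haveI : Mono (F.map j) := Functor.map_mono _ _
  haveI : IsMonHom aC := Groth.L08.Borel.isMonHom_of_comp_mono aC (F.map j) aZ haC
  have hfac : aC ≫ F.map j ≫ F.map z = a := by rw [reassoc_of% haC, haZ]
  haveI : Mono aC := mono_of_mono_fac hfac
  haveI : Mono (F.map j ≫ F.map z) := inferInstance
  exact hT.2.2.2 s T' aC f hT' (by rw [← cancel_mono (F.map j ≫ F.map z), Category.assoc, hfac, hf'])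

variable {A : Type u} [CommRing A] [HopfAlgebra k A] [Algebra.FiniteType k A]

/-- a subgroup of smaller dimension containing a maximal torus, from a non-central semisimple tangent vector -/
theorem exists_smaller [Smooth (P k A).hom] [ConnectedSpace (P k A).left] {s : A →ₗ[k] k} (hs : IsTangent k A s)
    (hd : IsDiagTangent s) (hnc : ¬ Cent s) :
    ∃ (C : Over (Spec (CommRingCat.of k))) (_ : GrpObj C) (c : C ⟶ P k A), IsMonHom c ∧ IsAffine C.left ∧
      Smooth C.hom ∧ ConnectedSpace C.left ∧
      topologicalKrullDim C.left < topologicalKrullDim (P k A).left ∧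
      ∀ (T : Over (Spec (CommRingCat.of k))) [GrpObj T] (i : T ⟶ C),
        Red.IsMaximalTorus i → Red.IsMaximalTorus (i ≫ c) := by
  let q : A →ₐc[k] A ⧸ J hs := Bialgebra.Quotient.mkBialgHom (J hs)
  haveI : Algebra.FiniteType k (A ⧸ J hs) :=
    Algebra.FiniteType.of_surjective (Ideal.Quotient.mkₐ k (J hs)) Ideal.Quotient.mk_surjective
  have hH := Groth.L25.LargestMult.isMultTypeFT_of_const k (A ⧸ J hs) (isMultTypeConst_quotient hs hd)
  haveI : ConnectedSpace (P k (A ⧸ J hs)).left := by
    haveI := nontrivial_quotient hs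
    haveI : Nonempty (PrimeSpectrum (A ⧸ J hs)) := inferInstance
    haveI : PreconnectedSpace (PrimeSpectrum (A ⧸ J hs)) := by
      refine preconnectedSpace_iff_clopen.2 fun S hS => ?_
      obtain ⟨e, he, rfl⟩ := PrimeSpectrum.isClopen_iff.1 hS
      rcases eq_zero_or_one_of_idem hs he with rfl | rfl
      · left; simp
      · right; simp
    exact (⟨inferInstance⟩ : ConnectedSpace (PrimeSpectrum (A ⧸ J hs)))
  haveI : IsAffineHom (P k A).hom := inferInstance
  obtain ⟨Z, gZ, z, hZ, hzc, hZs⟩ := Groth.Agent.S5247.result (P k (A ⧸ J hs)) (P k A) hH inferInstance inferInstance (sp q)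
  haveI := hzc; haveI := hZs; haveI := hZ.1; haveI := hZ.2.1
  haveI : IsAffine Z.left := isAffine_of_isAffineHom z.left
  haveI : LocallyOfFiniteType Z.hom := inferInstance
  obtain ⟨C, gC, j, hj⟩ := Groth.L08.Chev.exists_idComp Z
  haveI := hj.hom; haveI := hj.closedImm; haveI := hj.openImm
  refine ⟨C, gC, j ≫ z, inferInstance, hj.isAffine, hj.smooth, hj.connectedSpace, ?_, fun T _ i hT =>
    isMaximalTorus_comp_centralizer hH hZ hj hT⟩
  haveI : IsClosedImmersion (j ≫ z).left := inferInstanceAs (IsClosedImmersion (j.left ≫ z.left))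
  -- the centralizer is not the whole group
  have hne : ¬ Surjective (j ≫ z).left := by
    intro hsur
    haveI := hsur
    haveI : IsReduced (P k A).left := Groth.Agent.AV.isReduced_of_smooth_field (P k A).hom
    haveI : IsIso (j ≫ z).left := isIso_of_isClosedImmersion_of_surjective _
    haveI : IsIso ((Over.forget _).map (j ≫ z)) := ‹IsIso (j ≫ z).left›
    haveI : IsIso (j ≫ z) := isIso_of_reflects_iso _ (Over.forget _)
    have hcm : CentMap q := centMap_of_central q fun X x g => by
      have e := (hZ.2.2 X g).1 ⟨g ≫ inv (j ≫ z) ≫ j, by simp⟩ X (𝟙 X) x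
      rw [Category.id_comp] at e
      exact e.symm
    refine hnc fun φ => WithConv.ofConv_injective (LinearMap.ext fun x => ?_)
    let sb : A ⧸ J hs →ₗ[k] k := ((J hs).restrictScalars k).liftQ s fun a ha => by
      rw [LinearMap.mem_ker, ← pw_one s a]; exact ha 1
    have hsb : ∀ a, sb (q a) = s a := fun a => rfl
    have e := congrArg (fun w => TensorProduct.lid k k (TensorProduct.map sb φ w)) (hcm x)
    have e1 : ∀ w : A ⊗[k] A, TensorProduct.lid k k (TensorProduct.map sb φ
        (TensorProduct.map (q : A →ₗc[k] A ⧸ J hs).toLinearMap LinearMap.id w)) =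
        TensorProduct.lid k k (TensorProduct.map s φ w) := by
      intro w
      induction w with
      | zero => simp
      | add p p' hp hp' => simp only [map_add, hp, hp']
      | tmul p p' => simp [← hsb]
    simp only [e1] at e
    show (toConv s * toConv φ : WithConv (A →ₗ[k] k)) x = (toConv φ * toConv s : WithConv (A →ₗ[k] k)) x
    rw [LinearMap.convMul_apply, LinearMap.convMul_apply]
    have e2 : ∀ (f g : A →ₗ[k] k) (w : A ⊗[k] A), LinearMap.mul' k k (TensorProduct.map f g w) =
        TensorProduct.lid k k (TensorProduct.map f g w) ∧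
        TensorProduct.lid k k (TensorProduct.map f g (TensorProduct.comm k A A w)) =
          TensorProduct.lid k k (TensorProduct.map g f w) := by
      intro f g w
      induction w with
      | zero => simp
      | add p p' hp hp' => simp only [map_add, hp.1, hp'.1, hp.2, hp'.2, and_self]
      | tmul p p' => simp [mul_comm]
    rw [(e2 s φ _).1, (e2 φ s _).1, e, (e2 s φ _).2]
  haveI : LocallyOfFiniteType (P k A).hom := inferInstance
  haveI : IsLocallyNoetherian (P k A).left := LocallyOfFiniteType.isLocallyNoetherian (P k A).hom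
  have hirr : IrreducibleSpace (P k A).left := Groth.L25.Component.irreducibleSpace (P k A)
  obtain ⟨n, -, hn⟩ := Groth.L08.GrpDim.exists_dim (G := P k A)
  let Zs : Set (P k A).left := Set.range (j ≫ z).left
  have hlt : topologicalKrullDim Zs < topologicalKrullDim (Set.univ : Set (P k A).left) := by
    refine Groth.Agent.S11667.dim_lt ((j ≫ z).left.isClosedEmbedding).isClosed_range
      (IrreducibleSpace.isIrreducible_univ _) (Set.subset_univ _) (fun h => hne ⟨fun x => h (Set.mem_univ x)⟩) ?_
    rw [(Homeomorph.Set.univ _).isHomeomorph.topologicalKrullDim_eq, hn]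
    exact WithBot.coe_lt_coe.2 (ENat.natCast_lt_top n)
  rw [(Homeomorph.Set.univ _).isHomeomorph.topologicalKrullDim_eq] at hlt
  rwa [((j ≫ z).left.isClosedEmbedding).isEmbedding.toHomeomorph.isHomeomorph.topologicalKrullDim_eq]

end Groth.L24.TorusField
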