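import Groth.Agent.L24.TorusField.CentralQuot
import Groth.Agent.L24.TorusField.Step
import Groth.Agent.L24.BorelPair.Exists
import Groth.Agent.L24.BorelPair.GeomField
import Groth.Agent.L08.Borel.CentKernel
import Groth.Agent.L08.Borel.MaxTori
import Groth.Agent.L08.Borel.TorusImage
import Groth.Agent.L08.Borel.IsoBase
import Groth.Agent.L08.Borel.MaxTorusDesc
import Groth.Agent.L25.SplitSub.KernelLocal

/-!
# Maximal tori of smooth connected affine groups over a field
-/

set_option autoImplicit false
set_option backward.isDefEq.respectTransparency false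
set_option backward.isDefEq.respectTransparency.types false
set_option linter.style.haveILetI false

universe u

open CategoryTheory CategoryTheory.Limits MonoidalCategory CartesianMonoidalCategory MonObj GrpObj AlgebraicGeometry
open TensorProduct WithConv
open Groth.L25.Bridge (P)
open Groth.L08.TorusQuot (sp sp_left sp_comp exists_sp)

noncomputable section

namespace Groth.L24.TorusField

/-- a group has a maximal torus -/
def Good {S : Scheme.{u}} (G : Over S) [GrpObj G] : Prop :=
  ∃ (T : Over S) (_ : GrpObj T) (i : T ⟶ G), Red.IsMaximalTorus i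

/-- maximal tori are transported by isomorphisms -/
theorem isMaximalTorus_comp_iso {S : Scheme.{u}} {G G' T : Over S} [GrpObj G] [GrpObj G'] [GrpObj T] {i : T ⟶ G}
    (hT : Red.IsMaximalTorus i) (e : G ≅ G') [IsMonHom e.hom] : Red.IsMaximalTorus (i ≫ e.hom) := by
  haveI := hT.1; haveI := hT.2.1
  haveI : IsMonHom e.inv := inferInstance
  refine ⟨inferInstance, mono_comp _ _, hT.2.2.1, fun s T₁ _ a _ _ f h₁ hf => ?_⟩
  haveI : IsMonHom ((Over.pullback (Red.geomPt s)).map e.inv) := Groth.L25.MonoClosed.isMonHom_pullbackMap _ _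
  haveI : Mono ((Over.pullback (Red.geomPt s)).map e.inv) := Functor.map_mono _ _
  haveI : Mono (a ≫ (Over.pullback (Red.geomPt s)).map e.inv) := mono_comp _ _
  refine hT.2.2.2 s T₁ (a ≫ (Over.pullback (Red.geomPt s)).map e.inv) f h₁ ?_
  rw [reassoc_of% hf, ← Functor.map_comp, Category.assoc, e.hom_inv_id, Category.comp_id]

theorem exists_isMaxTorus {K : Type u} [Field K] [IsAlgClosed K] (G : Over (Spec (CommRingCat.of K))) [GrpObj G]
    [IsAffine G.left] [Smooth G.hom] [ConnectedSpace G.left] :
    ∃ (T : Over (Spec (CommRingCat.of K))) (_ : GrpObj T) (i : T ⟶ G), AGF.IsMaxTorus i := by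
  obtain ⟨B, gB, iB, hB⟩ := Groth.L08.Borel.exists_borel G
  obtain ⟨T, gT, t, p, hm, hmo, hT, -, -, -, -, habs⟩ := Groth.L08.Borel.exists_absorbing_of_borel hB
  haveI := hm; haveI := hmo; haveI := hB.1; haveI := hB.2.1
  haveI : Mono iB := Groth.L08.mono_of_closedImmersion iB
  exact ⟨T, gT, t ≫ iB, Groth.L08.Borel.isMaxTorus_of_absorbing _ hT habs⟩

variable {k : Type u} [Field k]

local notation "L" => AlgebraicClosure k
local notation "θL" => Spec.map (CommRingCat.ofHom (algebraMap k (AlgebraicClosure k)))

theorem flat_θL : Flat θL ∧ Surjective θL :=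
  ⟨Flat.SpecMap_iff.2 (RingHom.flat_algebraMap_iff.2 inferInstance),
    ⟨fun _ => ⟨IsLocalRing.closedPoint L, Subsingleton.elim (α := PrimeSpectrum k) _ _⟩⟩⟩

theorem cover_θL (V : (Spec (CommRingCat.of k)).Opens) (hV : IsAffineOpen V) :
    ∃ W : (Spec (CommRingCat.of L)).Opens, IsCompact (W : Set (Spec (CommRingCat.of L))) ∧
      (θL).base '' (W : Set (Spec (CommRingCat.of L))) = (V : Set (Spec (CommRingCat.of k))) := by
  haveI := (flat_θL (k := k)).2
  exact ⟨θL ⁻¹ᵁ V, (θL).isCompact_preimage hV.isCompact,
    Set.image_preimage_eq (V : Set (Spec (CommRingCat.of k))) (θL).surjective⟩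

/-- a group whose geometric maximal torus is trivial has the trivial maximal torus -/
theorem good_of_trivial {G : Over (Spec (CommRingCat.of k))} [GrpObj G] [IsAffine G.left] [Smooth G.hom]
    [ConnectedSpace G.left] {T : Over (Spec (CommRingCat.of L))} [GrpObj T] {i : T ⟶ Red.bc θL G}
    (hT : Red.IsMaximalTorus i) (htriv : 𝟙 T = 1) : Good G := by
  haveI := (flat_θL (k := k)).1; haveI := (flat_θL (k := k)).2
  haveI : IsAffineHom G.hom := inferInstance
  haveI : IsSeparated G.hom := inferInstance
  haveI : QuasiCompact G.hom := inferInstance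
  haveI : Smooth (Red.bc θL G).hom := inferInstanceAs (Smooth (pullback.snd G.hom θL))
  haveI : QuasiCompact (Red.bc θL G).hom := inferInstanceAs (QuasiCompact (pullback.snd G.hom θL))
  obtain ⟨T₀, g₀, i₀, h₀, -⟩ := Groth.L08.Borel.exists_maximalTorus_desc (cover_θL (k := k)) hT
    fun P p₁ p₂ h => by
      haveI : Smooth (Red.bc (p₁ ≫ θL) G).hom := inferInstanceAs (Smooth (pullback.snd G.hom (p₁ ≫ θL)))
      haveI : QuasiCompact (Red.bc (p₁ ≫ θL) G).hom := inferInstanceAs (QuasiCompact (pullback.snd G.hom (p₁ ≫ θL)))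
      haveI : IsSeparated (Red.bc (p₁ ≫ θL) G).hom := inferInstanceAs (IsSeparated (pullback.snd G.hom (p₁ ≫ θL)))
      have hmax : ∀ (p : P ⟶ Spec (CommRingCat.of L)) (e : p ≫ θL = p₁ ≫ θL),
          Red.IsMaximalTorus (Groth.L25.Descent.pullInc i p e) := fun p e =>
        isMaximalTorus_comp_iso (Groth.L08.Borel.isMaximalTorus_bc hT p) (ActBC.bcCompIso p θL G e)
      have hone : ∀ (p : P ⟶ Spec (CommRingCat.of L)) (X : Over P) (s : X ⟶ Red.bc p T), s = 1 := fun p X s => by
        rw [← Category.comp_id s, ← (Over.pullback p).map_id, htriv,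
          show (Over.pullback p).map (1 : T ⟶ T) = 1 from map_one (Over.pullback p).homMonoidHom, MonObj.comp_one]
      exact Groth.L08.Borel.exists_iso_of_central_maximal (hmax p₂ h.symm)
        (fun X g s => by
          haveI := (hmax p₂ h.symm).1
          rw [hone p₂ X s, MonObj.one_comp, _root_.one_mul, _root_.mul_one]) (hmax p₁ rfl)
  exact ⟨T₀, g₀, i₀, h₀⟩

/-- a group without central subgroups of multiplicative type: either trivial torus or a smaller group -/
theorem exists_smaller_or_good [Infinite k] {A : Type u} [CommRing A] [HopfAlgebra k A] [Algebra.FiniteType k A]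
    [Smooth (P k A).hom] [ConnectedSpace (P k A).left]
    (hQ : ∀ (S' : Scheme.{u}) (f : S' ⟶ Spec (CommRingCat.of k)) (H : Over S') [GrpObj H]
      (v : H ⟶ Red.bc f (P k A)) [IsMonHom v], SGA3x.IsMultTypeFT H →
      (∀ (X : Over S') (x : X ⟶ H) (g : X ⟶ Red.bc f (P k A)), (x ≫ v) * g = g * (x ≫ v)) → v = 1) :
    Good (P k A) ∨ ∃ (C : Over (Spec (CommRingCat.of k))) (_ : GrpObj C) (c : C ⟶ P k A), IsMonHom c ∧
      IsAffine C.left ∧ Smooth C.hom ∧ ConnectedSpace C.left ∧
      topologicalKrullDim C.left < topologicalKrullDim (P k A).left ∧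
      ∀ (T : Over (Spec (CommRingCat.of k))) [GrpObj T] (i : T ⟶ C),
        Red.IsMaximalTorus i → Red.IsMaximalTorus (i ≫ c) := by
  classical
  by_cases hall : ∀ s : A →ₗ[k] k, Groth.L08.AugGraded.IsTangent k A s → IsDiagTangent s → Cent s
  swap
  · simp only [not_forall, exists_prop] at hall
    obtain ⟨s, h1, h2, h3⟩ := hall
    exact Or.inr (exists_smaller h1 h2 h3)
  refine Or.inl ?_
  -- the geometric group
  let e := Groth.L25.Bridge.bcIso k A L
  let eh : Red.bc θL (P k A) ≅ P L (L ⊗[k] A) := (Grp.forget _).mapIso e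
  haveI : IsMonHom eh.hom := e.hom.hom.isMonHom_hom
  haveI : IsMonHom eh.inv := e.inv.hom.isMonHom_hom
  haveI : IsAffineHom (P k A).hom := inferInstance
  haveI : Smooth (Red.bc θL (P k A)).hom := inferInstanceAs (Smooth (pullback.snd (P k A).hom θL))
  haveI : IsIso eh.inv.left := inferInstanceAs (IsIso ((Over.forget _).map eh.inv))
  haveI : Smooth (P L (L ⊗[k] A)).hom := by rw [← Over.w eh.inv]; infer_instance
  haveI : ConnectedSpace (Red.bc θL (P k A)).left := by
    have hh := Groth.L25.Extension.isConnected_fibre_bc θL (P k A) isConnected_fibre (IsLocalRing.closedPoint L)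
    rw [connectedSpace_iff_univ]
    refine (congrArg _root_.IsConnected ?_).mp hh
    exact Set.eq_univ_of_forall fun x => Subsingleton.elim (α := PrimeSpectrum L) _ _
  haveI : IsIso eh.hom.left := inferInstanceAs (IsIso ((Over.forget _).map eh.hom))
  haveI : ConnectedSpace (P L (L ⊗[k] A)).left :=
    eh.hom.left.homeomorph.surjective.connectedSpace eh.hom.left.continuous
  obtain ⟨T, gT, iT, hiT⟩ := exists_isMaxTorus (P L (L ⊗[k] A))
  haveI := hiT.1; haveI := hiT.2.1
  obtain ⟨r, ⟨eT⟩⟩ := Groth.L08.Borel.exists_laurent_of_torus hiT.2.2.1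
  let et : T ≅ P L (MonoidAlgebra L (Multiplicative (Fin r → ℤ))) := (Grp.forget _).mapIso eT
  haveI : IsMonHom et.hom := eT.hom.hom.isMonHom_hom
  haveI : IsMonHom et.inv := eT.inv.hom.isMonHom_hom
  obtain ⟨π, hπ⟩ := exists_sp (et.inv ≫ iT)
  have hmaxπ : AGF.IsMaxTorus (sp π) := by
    rw [hπ]
    refine ⟨inferInstance, mono_comp _ _, Groth.L25.TorLift.isTorus_of_iso eT hiT.2.2.1, fun T' _ j _ _ f hT' hf => ?_⟩
    haveI : IsIso (et.hom ≫ f) := hiT.2.2.2 T' j (et.hom ≫ f) hT' (by rw [Category.assoc, hf, Iso.hom_inv_id_assoc])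
    exact IsIso.of_isIso_comp_left et.hom f
  haveI := hmaxπ.1; haveI := hmaxπ.2.1
  let p := ringChar k
  haveI : CharP k p := ringChar.charP k
  let red : MonoidAlgebra L (Multiplicative (Fin r → ℤ)) →ₐc[L] MonoidAlgebra L (Multiplicative (Fin r → ZMod p)) :=
    MonoidAlgebra.mapDomainBialgHom L (redHom r p)
  have hcent : CentHom (red.comp π) := centHom_of_forall_cent p r _ hall
  have hredsurj : Function.Surjective red := by
    intro y
    induction y using MonoidAlgebra.induction_on with
    | of m =>
      obtain ⟨n, hn⟩ : ∃ n, redHom r p n = m := by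
        refine ⟨Multiplicative.ofAdd fun i => (ZMod.intCast_surjective (m.toAdd i)).choose,
          Multiplicative.toAdd.injective (funext fun i => ?_)⟩
        exact (ZMod.intCast_surjective (m.toAdd i)).choose_spec
      exact ⟨MonoidAlgebra.single n 1, by simp [red, ← hn]⟩
    | add a b ha hb =>
      obtain ⟨a, rfl⟩ := ha
      obtain ⟨b, rfl⟩ := hb
      exact ⟨a + b, map_add _ _ _⟩
    | smul c a ha =>
      obtain ⟨a, rfl⟩ := ha
      exact ⟨c • a, map_smul _ _ _⟩
  haveI : IsClosedImmersion (sp red).left := by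
    rw [sp_left]
    exact IsClosedImmersion.spec_of_surjective _ hredsurj
  haveI : Mono (sp red) := Over.mono_of_mono_left _
  haveI : Mono (sp (red.comp π)) := by rw [← sp_comp]; exact mono_comp _ _
  have hw : sp (red.comp π) ≫ eh.inv = 1 := by
    have hm : SGA3x.IsMultTypeFT (P L (MonoidAlgebra L (Multiplicative (Fin r → ZMod p)))) :=
      Groth.L25.Bridge.isMultTypeFT_of_iso (Groth.L25.Bridge.dsIso L (Fin r → ZMod p))
        (Groth.L25.SplitSub.isMultTypeFT_DS _ (Fin r → ZMod p) (AddGroup.fg_of_surjective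
          (f := (Int.castAddHom (ZMod p)).compLeft (Fin r)) fun m =>
            ⟨fun i => (ZMod.intCast_surjective (m i)).choose, funext fun i => (ZMod.intCast_surjective (m i)).choose_spec⟩))
    refine hQ _ θL _ (sp (red.comp π) ≫ eh.inv) hm fun X x g => ?_
    haveI : Mono eh.hom := inferInstance
    rw [← cancel_mono eh.hom, MonObj.mul_comp, MonObj.mul_comp, Category.assoc, Category.assoc, Iso.inv_hom_id,
      Category.comp_id]
    exact central_of_centMap (red.comp π) hcent X x (g ≫ eh.hom)
  have htriv : 𝟙 (P L (MonoidAlgebra L (Multiplicative (Fin r → ZMod p)))) = 1 := by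
    rw [← cancel_mono (sp (red.comp π)), ← cancel_mono eh.inv, Category.id_comp, hw, MonObj.one_comp, MonObj.one_comp]
  have hr : r = 0 := by
    by_contra hr
    let B := MonoidAlgebra L (Multiplicative (Fin r → ZMod p))
    have e1 : (toConv (AlgHom.id L B) : WithConv (B →ₐ[L] B)) = 1 := by
      apply (Spec.mapMulEquiv (R := L) (S := B) (T := B)).injective
      rw [map_one]
      refine Eq.trans ?_ htriv
      apply Over.OverMorphism.ext
      show Spec.map (CommRingCat.ofHom (RingHom.id B)) = 𝟙 _
      exact Spec.map_id _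
    haveI : Nontrivial (ZMod p) := by
      rcases CharP.char_is_prime_or_zero k p with hp | hp
      · haveI := Fact.mk hp; infer_instance
      · rw [hp]; exact inferInstanceAs (Nontrivial ℤ)
    obtain ⟨i⟩ : Nonempty (Fin r) := ⟨⟨0, Nat.pos_of_ne_zero hr⟩⟩
    let m : Multiplicative (Fin r → ZMod p) := Multiplicative.ofAdd (fun _ => 1)
    have e2 := congrArg (fun w : WithConv (B →ₐ[L] B) => w.ofConv (MonoidAlgebra.single m 1)) e1
    simp only [AlgHom.convOne_apply] at e2
    rw [show Coalgebra.counit (R := L) (MonoidAlgebra.single m (1 : L) : B) = 1 from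
      (MonoidAlgebra.isGroupLikeElem_single_one (R := L) (A := L) m).counit_eq_one, map_one,
      MonoidAlgebra.one_def] at e2
    have e3 : m = 1 := by
      by_contra hne
      have := congrArg (fun b : B => b.coeff m) e2
      simp [Finsupp.single_eq_of_ne' (Ne.symm hne)] at this
    exact one_ne_zero (α := ZMod p) (congrFun (congrArg Multiplicative.toAdd e3) i)
  subst hr
  have hone : 𝟙 (P L (MonoidAlgebra L (Multiplicative (Fin 0 → ℤ)))) = 1 := by
    let B := MonoidAlgebra L (Multiplicative (Fin 0 → ℤ))
    have e1 : (toConv (AlgHom.id L B) : WithConv (B →ₐ[L] B)) = 1 := by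
      refine WithConv.ext (MonoidAlgebra.algHom_ext' (MonoidHom.ext fun m => ?_) (Subsingleton.elim _ _))
      obtain rfl : m = 1 := Subsingleton.elim _ _
      rw [map_one, map_one]
    have e2 := congrArg (Spec.mapMulEquiv (R := L) (S := B) (T := B)) e1
    rw [map_one] at e2
    refine Eq.trans ?_ e2
    apply Over.OverMorphism.ext
    exact (Spec.map_id _).symm
  haveI : IsMonHom eh.symm.hom := e.inv.hom.isMonHom_hom
  exact good_of_trivial (isMaximalTorus_comp_iso (Groth.L08.Borel.isMaximalTorus_of_isMaxTorus hmaxπ) eh.symm) hone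

/-- maximal tori exist, by induction on the dimension -/
theorem good_aux : ∀ (n : ℕ) (G : Over (Spec (CommRingCat.of k))) [GrpObj G] [IsAffine G.left] [Smooth G.hom]
    [ConnectedSpace G.left], topologicalKrullDim G.left ≤ (n : WithBot ℕ∞) → Good G := by
  intro n
  induction n using Nat.strong_induction_on with
  | _ n ih =>
    intro G _ _ _ _ hn
    rcases finite_or_infinite k with hk | hk
    · letI := Groth.L24.BorelPair.geomAlg k
      haveI := Groth.L24.BorelPair.isAlgClosure k
      obtain ⟨B, gB, iB, T, gT, t, -, -, -, -, h1, h2, h3, h4⟩ :=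
        Groth.L24.BorelPair.exists_pair (kb := Groth.L08.Borel.geomField (Groth.L08.Borel.pt0 k)) G
      haveI := h1; haveI := h2
      exact ⟨T, gT, t ≫ iB, Groth.L24.BorelPair.isMaximalTorus_of_geom (t ≫ iB) h3 h4⟩
    -- pass to the quotient by the largest central subgroup of multiplicative type
    obtain ⟨Q, gQ, q, hqm, hQa, hQs, hQc, hqs, hdim, hkc, hQ⟩ := exists_central_quotient G
    haveI := hqm; haveI := hQa; haveI := hQs; haveI := hQc; haveI := hqs
    haveI : IsAffineHom G.hom := inferInstance
    haveI : IsAffineHom Q.hom := inferInstance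
    suffices hgQ : Good Q by
      obtain ⟨T', gT', i', hT'⟩ := hgQ
      haveI := (flat_θL (k := k)).1; haveI := (flat_θL (k := k)).2
      haveI : IsAffineHom (Red.bc θL G).hom := inferInstanceAs (IsAffineHom (pullback.snd G.hom θL))
      haveI : IsAffine (Red.bc θL G).left := isAffine_of_isAffineHom (Red.bc θL G).hom
      haveI : Smooth (Red.bc θL G).hom := inferInstanceAs (Smooth (pullback.snd G.hom θL))
      haveI : ConnectedSpace (Red.bc θL G).left := by
        have hh := Groth.L25.Extension.isConnected_fibre_bc θL G isConnected_fibre (IsLocalRing.closedPoint L)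
        rw [connectedSpace_iff_univ]
        refine (congrArg _root_.IsConnected ?_).mp hh
        exact Set.eq_univ_of_forall fun x => Subsingleton.elim (α := PrimeSpectrum L) _ _
      obtain ⟨T₁, gT₁, i₁, hi₁⟩ := exists_isMaxTorus (Red.bc θL G)
      obtain ⟨T, gT, i, v, hT, -⟩ := Groth.L08.Borel.exists_lift_maximalTorus
        ⟨_, θL, inferInstance, inferInstance, cover_θL, T₁, gT₁, i₁,
          Groth.L08.Borel.isMaximalTorus_of_isMaxTorus hi₁⟩ q (fun s => Groth.L08.Borel.surjective_bcMap _ q) hkc hT'
      exact ⟨T, gT, i, hT⟩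
    obtain ⟨A, _, _, ⟨e⟩⟩ := Groth.L25.Bridge.exists_hopf (R := k) Q
    let eq : Q ≅ P k A := (Grp.forget _).mapIso e
    haveI : IsMonHom eq.hom := e.hom.hom.isMonHom_hom
    haveI : IsMonHom eq.inv := e.inv.hom.isMonHom_hom
    haveI : IsIso eq.inv.left := inferInstanceAs (IsIso ((Over.forget _).map eq.inv))
    haveI : IsIso eq.hom.left := inferInstanceAs (IsIso ((Over.forget _).map eq.hom))
    haveI : Smooth (P k A).hom := by rw [← Over.w eq.inv]; infer_instance
    haveI : ConnectedSpace (P k A).left :=
      eq.hom.left.homeomorph.surjective.connectedSpace eq.hom.left.continuous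
    haveI : Algebra.FiniteType k A := by
      have h : LocallyOfFiniteType (P k A).hom := inferInstance
      change LocallyOfFiniteType (Spec.map (CommRingCat.ofHom (algebraMap k A))) at h
      rw [HasRingHomProperty.Spec_iff (P := @LocallyOfFiniteType), CommRingCat.hom_ofHom,
        RingHom.finiteType_algebraMap] at h
      exact h
    have hgood : Good (P k A) := by
      rcases exists_smaller_or_good (A := A) (fun S' f H _ v _ hH hv => by
        haveI : IsMonHom ((Over.pullback f).map eq.inv) := Groth.L25.MonoClosed.isMonHom_pullbackMap _ _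
        have h1 := hQ S' f H (v ≫ (Over.pullback f).map eq.inv) hH fun X x g => by
          have := congrArg (· ≫ (Over.pullback f).map eq.inv) (hv X x (g ≫ (Over.pullback f).map eq.hom))
          simp only [MonObj.mul_comp, Category.assoc, ← Functor.map_comp, eq.hom_inv_id,
            CategoryTheory.Functor.map_id, Category.comp_id] at this
          exact this
        rw [← Category.comp_id v, ← (Over.pullback f).map_id, ← eq.inv_hom_id, Functor.map_comp,
          ← Category.assoc, h1]
        haveI : IsMonHom ((Over.pullback f).map eq.hom) := Groth.L25.MonoClosed.isMonHom_pullbackMap _ _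
        exact MonObj.one_comp _) with hg | ⟨C, gC, c, hcm, hCa, hCs, hCc, hlt, hmax⟩
      · exact hg
      · haveI := hCa; haveI := hCs; haveI := hCc
        obtain ⟨m, -, hm⟩ := Groth.L08.GrpDim.exists_dim (G := C)
        have hQP : topologicalKrullDim (P k A).left = topologicalKrullDim Q.left :=
          (eq.hom.left.homeomorph.isHomeomorph.topologicalKrullDim_eq).symm
        have hmn : m < n := by
          have h1 : (m : WithBot ℕ∞) < (n : WithBot ℕ∞) := hm ▸ lt_of_lt_of_le hlt (hQP ▸ hdim.trans hn)
          exact_mod_cast h1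
        obtain ⟨T, gT, i, hi⟩ := ih m hmn C hm.le
        exact ⟨T, gT, i ≫ c, hmax T i hi⟩
    obtain ⟨T, gT, i, hi⟩ := hgood
    haveI : IsMonHom eq.symm.hom := e.inv.hom.isMonHom_hom
    exact ⟨T, gT, i ≫ eq.symm.hom, isMaximalTorus_comp_iso hi eq.symm⟩

/-- **a smooth connected affine group over a field has a maximal torus defined over the field** -/
theorem exists_maximalTorus_connected (G : Over (Spec (CommRingCat.of k))) [GrpObj G] [IsAffine G.left] [Smooth G.hom]
    [ConnectedSpace G.left] : Good G := by
  obtain ⟨n, -, hn⟩ := Groth.L08.GrpDim.exists_dim (G := G)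
  exact good_aux n G hn.le

end Groth.L24.TorusField
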