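import Groth.Agent.L08.Centre.Basic
import Groth.Agent.L25.LargestMult.Scheme
import Groth.Agent.L08.Borel.CentBorel
import Groth.Agent.L25.MonoClosed.Main
import Groth.Agent.L08.SubgroupObj
import Groth.Agent.S3278
import Groth.Agent.S16775
import Groth.Agent.S4716
import Groth.Agent.L08.Borel.OverField
import Groth.Agent.L20.ThickeningTopology

/-!
# The quotient by the largest central subgroup of multiplicative type
-/

set_option autoImplicit false
set_option backward.isDefEq.respectTransparency.types false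
set_option linter.style.haveILetI false

universe u

open CategoryTheory CategoryTheory.Limits MonoidalCategory CartesianMonoidalCategory MonObj GrpObj AlgebraicGeometry

noncomputable section

namespace Groth.L24.TorusField

variable {k : Type u} [Field k]

/-- the largest central subgroup of multiplicative type -/
theorem exists_largest_central (G : Over (Spec (CommRingCat.of k))) [GrpObj G] [IsAffine G.left]
    [LocallyOfFiniteType G.hom] :
    ∃ (M : Over (Spec (CommRingCat.of k))) (_ : GrpObj M) (m : M ⟶ G), IsMonHom m ∧ Mono m ∧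
      IsClosedImmersion m.left ∧ SGA3x.IsMultTypeFT M ∧
      (∀ (X : Over (Spec (CommRingCat.of k))) (x : X ⟶ M) (g : X ⟶ G), (x ≫ m) * g = g * (x ≫ m)) ∧
      ∀ (S' : Scheme.{u}) (f : S' ⟶ Spec (CommRingCat.of k)) (H : Over S') [GrpObj H] (v : H ⟶ Red.bc f G) [IsMonHom v],
        SGA3x.IsMultTypeFT H → (∀ (X : Over S') (x : X ⟶ H) (g : X ⟶ Red.bc f G), (x ≫ v) * g = g * (x ≫ v)) →
        ∃ w : H ⟶ Red.bc f M, w ≫ (Over.pullback f).map m = v := by
  obtain ⟨Z, gZ, z, hzm, hzc, hZ⟩ := Groth.L08.Centre.exists_centre G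
  haveI := hzm; haveI := hzc; haveI := hZ.2.1
  haveI : IsAffine Z.left := isAffine_of_isAffineHom z.left
  haveI : LocallyOfFiniteType Z.hom := by rw [← Over.w z]; infer_instance
  have hcen : ∀ (X : Over (Spec (CommRingCat.of k))) (x : X ⟶ Z) (g : X ⟶ G), (x ≫ z) * g = g * (x ≫ z) := by
    intro X x g
    have := (hZ.2.2 X (x ≫ z)).1 ⟨x, rfl⟩ X (𝟙 _) g
    simpa only [Category.id_comp, Category.comp_id] using this
  have hcomm : ∀ (X : Over (Spec (CommRingCat.of k))) (a b : X ⟶ Z), a * b = b * a := fun X a b => by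
    rw [← cancel_mono z, MonObj.mul_comp, MonObj.mul_comp, hcen]
  obtain ⟨M, gM, i, him, himo, hMT, huniv⟩ := Groth.L25.LargestMult.exists_largest k Z hcomm
  haveI := him; haveI := himo
  haveI : IsAffineHom G.hom := inferInstance
  haveI : Mono (i ≫ z) := mono_comp _ _
  refine ⟨M, gM, i ≫ z, inferInstance, inferInstance, Groth.L25.MonoClosed.isClosedImmersion_of_mono hMT _, hMT,
    fun X x g => by rw [← Category.assoc]; exact hcen X _ g, fun S' f H _ v _ hH hv => ?_⟩
  have hZf := Groth.L08.Borel.isCentralizerOf_bc f hZ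
  haveI := hZf.1; haveI := hZf.2.1
  obtain ⟨v', hv'⟩ := (hZf.2.2 H v).2 fun X' x h => by
    rw [CategoryTheory.Functor.map_id, Category.comp_id]
    exact hv X' x h
  haveI : IsMonHom v' := Groth.L25.Bridge.isMonHom_of_mul v' fun X a b => by
    rw [← cancel_mono ((Over.pullback f).map z), Category.assoc, hv',
      MonObj.mul_comp (a ≫ v') (b ≫ v') ((Over.pullback f).map z), Category.assoc, Category.assoc, hv']
    exact MonObj.mul_comp a b v
  obtain ⟨w, hw⟩ := huniv S' f H v' hH
  exact ⟨w, by rw [Functor.map_comp, reassoc_of% hw, hv']⟩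

variable {G M Q : Over (Spec (CommRingCat.of k))} [GrpObj G] [GrpObj M] [GrpObj Q]

/-- a surjective flat homomorphism is the quotient by its kernel -/
theorem isQuotient_of_isKernel (i : M ⟶ G) [IsMonHom i] [Mono i] (q : G ⟶ Q) [IsMonHom q] [Surjective q.left]
    [Flat q.left] [LocallyOfFinitePresentation q.left] (hker : AlgGrp.IsKernel i q) : RedSub.IsQuotient i q := by
  refine ⟨inferInstance, inferInstance, inferInstance, ?_⟩
  let r : G ⊗ M ⟶ G := (G ◁ i) ≫ μ[G]
  have hr : r = fst G M * (snd G M ≫ i) := by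
    rw [Hom.mul_def]
    show (G ◁ i) ≫ μ[G] = lift (fst G M) (snd G M ≫ i) ≫ μ[G]
    congr 1

  have hiq : i ≫ q = 1 := hker.w.trans Hom.one_def.symm
  have hw : fst G M ≫ q = r ≫ q := by
    rw [hr, MonObj.mul_comp, Category.assoc, hiq, MonObj.comp_one, _root_.mul_one]
  have hcrit : ∀ {X : Over (Spec (CommRingCat.of k))} (a b : X ⟶ G), a ≫ q = b ≫ q →
      ∃ c : X ⟶ M, c ≫ i = a⁻¹ * b := by
    intro X a b h
    obtain ⟨c, hc, -⟩ := hker.exists_lift (a⁻¹ * b) (toUnit X) (by
      rw [MonObj.mul_comp, GrpObj.inv_comp, h, inv_mul_cancel, Hom.one_def])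
    exact ⟨c, hc⟩
  refine ⟨⟨hw⟩, ⟨PullbackCone.IsLimit.mk hw
    (fun c => lift c.fst (hcrit c.fst c.snd c.condition).choose) (fun c => lift_fst _ _) (fun c => ?_)
    (fun c m h1 h2 => ?_)⟩⟩
  · have := (hcrit c.fst c.snd c.condition).choose_spec
    show lift c.fst _ ≫ r = c.snd
    rw [hr, MonObj.comp_mul, lift_fst, lift_snd_assoc, this, mul_inv_cancel_left]
  · refine CartesianMonoidalCategory.hom_ext _ _ (by rw [lift_fst]; exact h1) ?_
    rw [lift_snd, ← cancel_mono i, (hcrit c.fst c.snd c.condition).choose_spec, ← h1, ← h2]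
    show (m ≫ snd G M) ≫ i = (m ≫ fst G M)⁻¹ * (m ≫ r)
    rw [hr, MonObj.comp_mul, inv_mul_cancel_left, Category.assoc]

/-- the quotient by the largest central subgroup of multiplicative type -/
theorem exists_central_quotient (G : Over (Spec (CommRingCat.of k))) [GrpObj G] [IsAffine G.left] [Smooth G.hom]
    [ConnectedSpace G.left] :
    ∃ (Q : Over (Spec (CommRingCat.of k))) (_ : GrpObj Q) (q : G ⟶ Q), IsMonHom q ∧ IsAffine Q.left ∧
      Smooth Q.hom ∧ ConnectedSpace Q.left ∧ Surjective q.left ∧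
      topologicalKrullDim Q.left ≤ topologicalKrullDim G.left ∧
      (∀ (X : Over (Spec (CommRingCat.of k))) (z : X ⟶ G), z ≫ q = 1 →
        ∀ (X' : Over (Spec (CommRingCat.of k))) (x : X' ⟶ X) (g : X' ⟶ G), (x ≫ z) * g = g * (x ≫ z)) ∧
      ∀ (S' : Scheme.{u}) (f : S' ⟶ Spec (CommRingCat.of k)) (H : Over S') [GrpObj H] (v : H ⟶ Red.bc f Q) [IsMonHom v],
        SGA3x.IsMultTypeFT H → (∀ (X : Over S') (x : X ⟶ H) (g : X ⟶ Red.bc f Q), (x ≫ v) * g = g * (x ≫ v)) →
        v = 1 := by
  haveI : LocallyOfFiniteType G.hom := inferInstance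
  haveI : IsAffineHom G.hom := inferInstance
  obtain ⟨M, gM, m, hmm, hmo, hmc, hMT, hcen, huniv⟩ := exists_largest_central G
  haveI := hmm; haveI := hmo; haveI := hmc
  have hn : AlgGrp.IsNormalHom m := fun T g n => ⟨n, by rw [← hcen T n g, mul_inv_cancel_right]⟩
  obtain ⟨Q, gQ, q, hqm, hQa, hQl, hqf, hqs, hker⟩ := Groth.Agent.S3278.result k G M m hn
  haveI := hqm; haveI := hQa; haveI := hQl; haveI := hqf; haveI := hqs
  haveI : LocallyOfFinitePresentation Q.hom := inferInstance
  haveI : LocallyOfFinitePresentation q.left := by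
    haveI : LocallyOfFinitePresentation (q.left ≫ Q.hom) := by rw [Over.w q]; infer_instance
    exact Groth.L20.locallyOfFinitePresentation_of_comp q.left Q.hom
  haveI : QuasiCompact G.hom := inferInstance
  haveI : Smooth Q.hom := Groth.L23.FppfSmooth.smooth_of_fppf_comp q.left Q.hom (by rw [Over.w q]; infer_instance)
  haveI : ConnectedSpace Q.left := q.left.surjective.connectedSpace q.left.continuous
  have hkc : ∀ (X : Over (Spec (CommRingCat.of k))) (z : X ⟶ G), z ≫ q = 1 →
      ∀ (X' : Over (Spec (CommRingCat.of k))) (x : X' ⟶ X) (g : X' ⟶ G), (x ≫ z) * g = g * (x ≫ z) := by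
    intro X z hz X' x g
    obtain ⟨c, rfl, -⟩ := hker.exists_lift z (toUnit X) (by rw [hz, Hom.one_def])
    rw [← Category.assoc]
    exact hcen X' (x ≫ c) g
  haveI : IsLocallyNoetherian G.left := LocallyOfFiniteType.isLocallyNoetherian G.hom
  haveI : IsLocallyNoetherian Q.left := LocallyOfFiniteType.isLocallyNoetherian Q.hom
  refine ⟨Q, gQ, q, hqm, hQa, inferInstance, inferInstance, hqs,
    Groth.Agent.S4716.result q.left q.left.surjective (Or.inl q.left.isOpenMap), hkc, fun S' f H _ v _ hH hv => ?_⟩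
  -- the quotient has no central subgroup of multiplicative type
  haveI : IsAffineHom Q.hom := inferInstance
  obtain ⟨M', gM', m', hm'm, hm'o, hm'c, hM'T, hcen', huniv'⟩ := exists_largest_central Q
  haveI := hm'm; haveI := hm'o; haveI := hm'c
  let P := pullback q m'
  let p₁ : P ⟶ G := pullback.fst q m'
  let p₂ : P ⟶ M' := pullback.snd q m'
  have sqP : IsPullback p₁ p₂ q m' := IsPullback.of_hasPullback q m'
  haveI : Mono p₁ := inferInstanceAs (Mono (pullback.fst q m'))
  have hfac : ∀ {X : Over (Spec (CommRingCat.of k))} (g : X ⟶ G),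
      (∃ c : X ⟶ P, c ≫ p₁ = g) ↔ ∃ d : X ⟶ M', d ≫ m' = g ≫ q := fun g => by
    refine ⟨fun ⟨c, hc⟩ => ⟨c ≫ p₂, by rw [← hc, Category.assoc, Category.assoc, sqP.w]⟩, fun ⟨d, hd⟩ => ?_⟩
    obtain ⟨c, hc, -⟩ := sqP.exists_lift g d hd.symm
    exact ⟨c, hc⟩
  obtain ⟨gP, hp₁⟩ := Groth.L08.exists_grpObj_of_mono p₁
    ((hfac η[G]).2 ⟨η[M'], by rw [IsMonHom.one_hom (f := m'), IsMonHom.one_hom (f := q)]⟩)
    ((hfac _).2 ⟨(fst P P ≫ p₂) * (snd P P ≫ p₂), by
      simp only [MonObj.mul_comp, Category.assoc, sqP.w]⟩)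
    ((hfac _).2 ⟨p₂⁻¹, by simp only [GrpObj.inv_comp, sqP.w]⟩)
  letI := gP; haveI := hp₁
  haveI : IsMonHom p₂ := Groth.L25.Bridge.isMonHom_of_mul p₂ fun X a b => by
    rw [← cancel_mono m', Category.assoc, ← sqP.w, MonObj.mul_comp (a ≫ p₂) (b ≫ p₂) m', Category.assoc,
      Category.assoc, ← sqP.w]
    exact MonObj.mul_comp a b (p₁ ≫ q)
  obtain ⟨hPT, hPc⟩ := Groth.Agent.S16775.result (G := G) (H := M) (Q := Q) (H' := M') (P := P) inferInstance
    inferInstance (fun s => by
      rw [show G.hom.base ⁻¹' {s} = Set.univ from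
        Set.eq_univ_of_forall fun x => Subsingleton.elim (α := PrimeSpectrum k) _ _]
      exact isConnected_univ) m hMT hn q (isQuotient_of_isKernel m q hker) hker m' hM'T hcen' p₁ p₂ sqP
  have hm1 : m' = 1 := by
    let one' : Spec (CommRingCat.of k) ⟶ Spec (CommRingCat.of k) := 𝟙 _
    haveI : IsMonHom ((Over.pullback one').map p₁) := Groth.L25.MonoClosed.isMonHom_pullbackMap _ _
    obtain ⟨w, hw⟩ := huniv _ one' (Red.bc one' P) ((Over.pullback one').map p₁)
      (Groth.L25.MultTypeBC.isMultTypeFT_bc hPT one') (fun X x g => by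
        apply Groth.L25.CentralLift.toBase_injective
        rw [Groth.L25.NilAction.toBase_mul, Groth.L25.NilAction.toBase_mul, Groth.L25.SplitSub.toBase_map]
        exact hPc _ _ _)
    have h1 : p₁ ≫ q = 1 := by
      have hmq : m ≫ q = 1 := hker.w.trans Hom.one_def.symm
      have h2 : (Over.pullback one').map (p₁ ≫ q) = 1 := by
        rw [Functor.map_comp, ← hw, Category.assoc, ← Functor.map_comp, hmq,
          show (Over.pullback one').map (1 : M ⟶ Q) = 1 from map_one (Over.pullback one').homMonoidHom,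
          MonObj.comp_one]
      haveI : (Over.pullback one').IsEquivalence :=
        Functor.isEquivalence_of_iso (Over.pullbackId (X := Spec (CommRingCat.of k))).symm
      exact (Over.pullback one').map_injective (h2.trans
        (show (Over.pullback one').map (1 : P ⟶ Q) = 1 from map_one (Over.pullback one').homMonoidHom).symm)
    haveI : Surjective p₂.left := MorphismProperty.of_isPullback (P := @Surjective) (sqP.map (Over.forget _)) hqs
    haveI : Flat p₂.left := MorphismProperty.of_isPullback (P := @Flat) (sqP.map (Over.forget _)) hqf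
    haveI : QuasiCompact p₂.left := MorphismProperty.of_isPullback (P := @QuasiCompact) (sqP.map (Over.forget _))
      (QuasiCompact.of_comp q.left Q.hom : QuasiCompact q.left)
    haveI : Epi p₂.left := Flat.epi_of_flat_of_surjective p₂.left
    haveI : Epi p₂ := Over.epi_of_epi_left p₂
    rw [← cancel_epi p₂, ← sqP.w, h1, MonObj.comp_one]
  obtain ⟨w, hw⟩ := huniv' S' f H v hH hv
  rw [← hw, hm1, show (Over.pullback f).map (1 : M' ⟶ Q) = 1 from map_one (Over.pullback f).homMonoidHom,
    MonObj.comp_one]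

end Groth.L24.TorusField
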