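import Groth.Agent.L24.TorusField.Central
import Groth.Agent.L25.Bridge.Spec
import Groth.Agent.L25.Bridge.MultType
import Groth.Agent.L25.Bridge.Lift
import Groth.Agent.L26.AV.SmoothField
import Groth.Agent.L25.SplitSub.Greatest
import Groth.Agent.L25.SplitSub.KernelLocal
import Groth.Agent.L08.TorusQuot.Affine
import Groth.Agent.L26.AV.GroupSep
import Groth.Agent.L25.Component

/-!
# Infinitesimal parts of split tori
-/

set_option autoImplicit false
set_option backward.isDefEq.respectTransparency false
set_option backward.isDefEq.respectTransparency.types false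
set_option linter.style.haveILetI false

universe u

open CategoryTheory AlgebraicGeometry
open Groth.L25.Bridge (P)
open Groth.L08.TorusQuot (sp sp_left)

noncomputable section

namespace Groth.L24.TorusField

variable {k : Type u} [Field k]

/-- the reduced part of a split torus is a closed subgroup of multiplicative type -/
theorem red_closedImmersion (r p : ℕ) :
    IsClosedImmersion (sp (MonoidAlgebra.mapDomainBialgHom k (redHom r p))).left ∧
      SGA3x.IsMultTypeFT (P k (MonoidAlgebra k (Multiplicative (Fin r → ZMod p)))) := by
  constructor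
  · rw [sp_left]
    refine IsClosedImmersion.spec_of_surjective _ fun y => ?_
    induction y using MonoidAlgebra.induction_on with
    | of m =>
      obtain ⟨n, hn⟩ : ∃ n, redHom r p n = m := by
        refine ⟨Multiplicative.ofAdd fun i => (ZMod.intCast_surjective (m.toAdd i)).choose,
          Multiplicative.toAdd.injective (funext fun i => ?_)⟩
        exact (ZMod.intCast_surjective (m.toAdd i)).choose_spec
      exact ⟨MonoidAlgebra.single n 1, by simp [← hn]⟩
    | add a b ha hb =>
      obtain ⟨a, rfl⟩ := ha
      obtain ⟨b, rfl⟩ := hb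
      exact ⟨a + b, map_add _ _ _⟩
    | smul c a ha =>
      obtain ⟨a, rfl⟩ := ha
      exact ⟨c • a, map_smul (MonoidAlgebra.mapDomainBialgHom k (redHom r p)) c a⟩
  · exact Groth.L25.Bridge.isMultTypeFT_of_iso (Groth.L25.Bridge.dsIso k (Fin r → ZMod p))
      (Groth.L25.SplitSub.isMultTypeFT_DS _ (Fin r → ZMod p) (AddGroup.fg_of_surjective
        (f := (Int.castAddHom (ZMod p)).compLeft (Fin r)) fun m =>
          ⟨fun i => (ZMod.intCast_surjective (m i)).choose, funext fun i => (ZMod.intCast_surjective (m i)).choose_spec⟩))

/-- a group algebra whose spectrum is trivial is the ground field -/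
theorem bijective_of_trivial {B : Type u} [CommRing B] [Algebra k B]
    (h : IsIso (Spec.map (CommRingCat.ofHom (algebraMap k B)))) : Function.Bijective (algebraMap k B) := by
  haveI : IsIso (Scheme.Spec.map (CommRingCat.ofHom (algebraMap k B)).op) := h
  haveI : IsIso (CommRingCat.ofHom (algebraMap k B)).op := isIso_of_fully_faithful Scheme.Spec _
  haveI : IsIso (CommRingCat.ofHom (algebraMap k B)) := isIso_of_op _
  exact ConcreteCategory.bijective_of_isIso (CommRingCat.ofHom (algebraMap k B))

theorem rank_eq_zero_of_trivial (r p : ℕ) [CharP k p]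
    (h : Red.IsTrivialGrp (P k (MonoidAlgebra k (Multiplicative (Fin r → ZMod p))))) : r = 0 := by
  classical
  by_contra hr
  haveI : Nontrivial (ZMod p) := by
    rcases CharP.char_is_prime_or_zero k p with hp | hp
    · haveI := Fact.mk hp; infer_instance
    · rw [hp]; exact inferInstanceAs (Nontrivial ℤ)
  obtain ⟨i⟩ : Nonempty (Fin r) := ⟨⟨0, Nat.pos_of_ne_zero hr⟩⟩
  obtain ⟨c, hc⟩ := (bijective_of_trivial h).2 (MonoidAlgebra.single (Multiplicative.ofAdd fun _ => 1) 1)
  have e := congrArg (fun b : MonoidAlgebra k (Multiplicative (Fin r → ZMod p)) =>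
    b.coeff (Multiplicative.ofAdd fun _ => 1)) hc
  have hne : (Multiplicative.ofAdd fun _ : Fin r => (1 : ZMod p)) ≠ 1 := fun he =>
    one_ne_zero (α := ZMod p) (congrFun (congrArg Multiplicative.toAdd he) i)
  simp [MonoidAlgebra.coe_algebraMap, Finsupp.single_eq_of_ne hne] at e

theorem isIso_laurent_zero : IsIso (P k (MonoidAlgebra k (Multiplicative (Fin 0 → ℤ)))).hom := by
  haveI : IsIso (CommRingCat.ofHom (algebraMap k (MonoidAlgebra k (Multiplicative (Fin 0 → ℤ))))) :=
    (ConcreteCategory.isIso_iff_bijective _).2
      ⟨FaithfulSMul.algebraMap_injective k _, fun x => ⟨Coalgebra.counit x,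
        DFunLike.congr_fun (show (Algebra.ofId k _).comp (Bialgebra.counitAlgHom k _) = AlgHom.id k _ from
          MonoidAlgebra.algHom_ext' (MonoidHom.ext fun m => by
            obtain rfl : m = 1 := Subsingleton.elim _ _
            rw [map_one, map_one]) (Subsingleton.elim _ _)) x⟩⟩
  exact inferInstanceAs (IsIso (Spec.map _))

/-- the coordinate ring of a smooth connected affine group over a field is a domain -/
theorem isDomain_of_smooth_connected {A : Type u} [CommRing A] [HopfAlgebra k A] [Smooth (P k A).hom]
    [ConnectedSpace (P k A).left] : IsDomain A := by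
  haveI : IsReduced (P k A).left := Groth.Agent.AV.isReduced_of_smooth_field (P k A).hom
  haveI : IsLocallyNoetherian (P k A).left := LocallyOfFiniteType.isLocallyNoetherian (P k A).hom
  haveI : LocallyOfFiniteType (P k A).hom := inferInstance
  haveI : IrreducibleSpace (P k A).left := Groth.L25.Component.irreducibleSpace (P k A)
  haveI hI : IsIntegral (Spec (CommRingCat.of A)) := isIntegral_of_irreducibleSpace_of_isReduced (P k A).left
  exact (affine_isIntegral_iff (CommRingCat.of A)).1 hI

end Groth.L24.TorusField
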