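import Groth.Agent.L24.TorusField.Central
import Groth.Agent.L08.TorusQuot.Affine

/-!
# Centrality of a homomorphism of affine groups and of its bialgebra map
-/

set_option autoImplicit false
set_option backward.isDefEq.respectTransparency false
set_option backward.isDefEq.respectTransparency.types false
set_option linter.style.haveILetI false

universe u

open CategoryTheory CategoryTheory.Limits MonoidalCategory CartesianMonoidalCategory MonObj AlgebraicGeometry
open TensorProduct WithConv
open Groth.L25.Bridge (P)
open Groth.L08.TorusQuot (sp sp_left toPt toPt_pre SP Pt pre)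

noncomputable section

namespace Groth.L24.TorusField

variable {k : Type u} [Field k] {A B : Type u} [CommRing A] [HopfAlgebra k A] [CommRing B] [HopfAlgebra k B]

/-- the equation of centrality -/
def CentMap (π : A →ₐc[k] B) : Prop :=
  ∀ x : A, TensorProduct.map (π : A →ₗc[k] B).toLinearMap LinearMap.id (Coalgebra.comul (R := k) x) =
    TensorProduct.map (π : A →ₗc[k] B).toLinearMap LinearMap.id (TensorProduct.comm k A A (Coalgebra.comul (R := k) x))

theorem centHom_iff {M : Type u} [CommGroup M] (π : A →ₐc[k] MonoidAlgebra k M) : CentHom π ↔ CentMap π := Iff.rfl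

variable (π : A →ₐc[k] B)

/-- the universal point of the source -/
abbrev ptL : SP k (B ⊗[k] A) ⟶ P k B := toPt (toConv (Algebra.TensorProduct.includeLeft : B →ₐ[k] B ⊗[k] A))

/-- the universal point of the target -/
abbrev ptR : SP k (B ⊗[k] A) ⟶ P k A := toPt (toConv (Algebra.TensorProduct.includeRight : A →ₐ[k] B ⊗[k] A))

theorem left_mul_eq (x : A) :
    (pre π (toConv (Algebra.TensorProduct.includeLeft : B →ₐ[k] B ⊗[k] A)) *
        toConv (Algebra.TensorProduct.includeRight : A →ₐ[k] B ⊗[k] A)).ofConv x =
      TensorProduct.map (π : A →ₗc[k] B).toLinearMap LinearMap.id (Coalgebra.comul (R := k) x) ∧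
    (toConv (Algebra.TensorProduct.includeRight : A →ₐ[k] B ⊗[k] A) *
        pre π (toConv (Algebra.TensorProduct.includeLeft : B →ₐ[k] B ⊗[k] A))).ofConv x =
      TensorProduct.map (π : A →ₗc[k] B).toLinearMap LinearMap.id
        (TensorProduct.comm k A A (Coalgebra.comul (R := k) x)) := by
  constructor <;>
  · simp only [AlgHom.convMul_apply]
    induction Coalgebra.comul (R := k) x with
    | zero => simp
    | add p q hp hq => simp only [map_add, hp, hq]
    | tmul p q => simp [pre]

/-- central homomorphisms have central bialgebra maps -/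
theorem centMap_of_central
    (h : ∀ (X : Over (Spec (CommRingCat.of k))) (x : X ⟶ P k B) (g : X ⟶ P k A), (x ≫ sp π) * g = g * (x ≫ sp π)) :
    CentMap π := by
  intro x
  have e := h (SP k (B ⊗[k] A)) ptL ptR
  rw [← toPt_pre, ← map_mul, ← map_mul] at e
  have e' := (Spec.mapMulEquiv (R := k) (S := A) (T := B ⊗[k] A)).injective e
  rw [← (left_mul_eq π x).1, ← (left_mul_eq π x).2, e']

/-- the product of two affine groups as an affine scheme -/
def prodMap : SP k (B ⊗[k] A) ⟶ P k B ⊗ P k A := lift ptL ptR

instance isIso_prodMap : IsIso (prodMap (k := k) (A := A) (B := B)) := by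
  let e := (pullbackSpecIso k B A).inv
  have h : (prodMap (k := k) (A := A) (B := B)).left = e := by
    refine pullback.hom_ext ?_ ?_
    · refine (congrArg (fun m => m.left) (lift_fst (ptL (k := k) (A := A) (B := B)) ptR)).trans ?_
      exact (pullbackSpecIso_inv_fst k B A).symm
    · refine (congrArg (fun m => m.left) (lift_snd (ptL (k := k) (A := A) (B := B)) ptR)).trans ?_
      exact (pullbackSpecIso_inv_snd k B A).symm
  haveI : IsIso (prodMap (k := k) (A := A) (B := B)).left := by rw [h]; infer_instance
  haveI : IsIso ((Over.forget _).map (prodMap (k := k) (A := A) (B := B))) := ‹_›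
  exact isIso_of_reflects_iso _ (Over.forget _)

/-- a central bialgebra map gives a central homomorphism -/
theorem central_of_centMap (h : CentMap π) (X : Over (Spec (CommRingCat.of k))) (x : X ⟶ P k B) (g : X ⟶ P k A) :
    (x ≫ sp π) * g = g * (x ≫ sp π) := by
  have key : (fst (P k B) (P k A) ≫ sp π) * snd (P k B) (P k A) = snd (P k B) (P k A) * (fst (P k B) (P k A) ≫ sp π) := by
    rw [← cancel_epi (prodMap (k := k) (A := A) (B := B)), MonObj.comp_mul, MonObj.comp_mul]
    simp only [prodMap, lift_fst_assoc, lift_snd]
    rw [← toPt_pre, ← map_mul, ← map_mul]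
    refine congrArg toPt (WithConv.ext (AlgHom.ext fun a => ?_))
    rw [(left_mul_eq π a).1, (left_mul_eq π a).2, h a]
  have := congrArg (fun m => lift x g ≫ m) key
  simp only [MonObj.comp_mul, lift_fst_assoc, lift_snd] at this
  exact this

end Groth.L24.TorusField
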