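import Groth.Agent.L24.TorusField.Semisimple
import Mathlib.RingTheory.Bialgebra.MonoidAlgebra
import Mathlib.RingTheory.Coalgebra.MonoidAlgebra
import Mathlib.Algebra.MonoidAlgebra.Module
import Mathlib.Data.ZMod.Basic

/-!
# Centrality of the infinitesimal torus when all semisimple tangent vectors are central
-/

set_option autoImplicit false
set_option backward.isDefEq.respectTransparency false

universe u v

open TensorProduct WithConv

noncomputable section

namespace Groth.L24.TorusField

open Groth.L08 Groth.L08.AugGraded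

section Group

variable {L : Type u} [Field L] {A : Type u} [CommRing A] [HopfAlgebra L A] {M : Type v} [CommGroup M]

/-- the morphism lands in the centre -/
def CentHom (π : A →ₐc[L] MonoidAlgebra L M) : Prop :=
  ∀ x : A, TensorProduct.map (π : A →ₗc[L] MonoidAlgebra L M).toLinearMap LinearMap.id (Coalgebra.comul (R := L) x) =
    TensorProduct.map (π : A →ₗc[L] MonoidAlgebra L M).toLinearMap LinearMap.id
      (TensorProduct.comm L A A (Coalgebra.comul (R := L) x))

/-- the functional attached to a function on characters -/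
def pf (π : A →ₐc[L] MonoidAlgebra L M) (f : M → L) : A →ₗ[L] L :=
  (MonoidAlgebra.basis M L).constr L f ∘ₗ (π : A →ₗc[L] MonoidAlgebra L M).toLinearMap

variable (π : A →ₐc[L] MonoidAlgebra L M)

theorem pf_apply (f : M → L) (x : A) : pf π f x = (MonoidAlgebra.basis M L).constr L f (π x) := rfl

theorem constr_single (f : M → L) (m : M) :
    (MonoidAlgebra.basis M L).constr L f (MonoidAlgebra.single m 1) = f m := by
  rw [← MonoidAlgebra.basis_apply, Module.Basis.constr_basis]

theorem pf_mul (f g : M → L) : toConv (pf π f) * toConv (pf π g) = toConv (pf π (f * g)) := by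
  have e : (toConv ((MonoidAlgebra.basis M L).constr L f) * toConv ((MonoidAlgebra.basis M L).constr L g)) =
      toConv ((MonoidAlgebra.basis M L).constr L (f * g)) := by
    refine WithConv.ofConv_injective ((MonoidAlgebra.basis M L).ext fun m => ?_)
    show (toConv _ * toConv _ : WithConv (MonoidAlgebra L M →ₗ[L] L)) (MonoidAlgebra.basis M L m) = _
    rw [LinearMap.convMul_apply, MonoidAlgebra.basis_apply,
      (MonoidAlgebra.isGroupLikeElem_single_one (R := L) (A := L) m).comul_eq_tmul_self]
    simp [constr_single]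
  refine WithConv.ofConv_injective ?_
  have := LinearMap.convMul_comp_coalgHom_distrib
    (toConv ((MonoidAlgebra.basis M L).constr L f)) (toConv ((MonoidAlgebra.basis M L).constr L g))
    (π : A →ₗc[L] MonoidAlgebra L M)
  rw [e] at this
  exact this.symm

theorem pf_one : pf π 1 = Coalgebra.counit := by
  refine LinearMap.ext fun x => ?_
  rw [pf_apply, ← CoalgHomClass.counit_comp_apply π x]
  refine LinearMap.congr_fun ((MonoidAlgebra.basis M L).ext fun m => ?_) (π x)
  rw [MonoidAlgebra.basis_apply, constr_single,
    (MonoidAlgebra.isGroupLikeElem_single_one (R := L) (A := L) m).counit_eq_one]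
  rfl

/-- centrality from centrality of enough functionals -/
theorem centHom_of_cent {ι' : Type*} (u : ι' → M → L) (hu : ∀ m m' : M, (∀ i, u i m = u i m') → m = m')
    (hc : ∀ i, Cent (pf π (u i))) : CentHom π := by
  classical
  let Z : Set (M → L) := {f | Cent (pf π f)}
  have hone : (1 : M → L) ∈ Z := fun φ => by
    rw [pf_one, show toConv (Coalgebra.counit : A →ₗ[L] L) = 1 from WithConv.ofConv_injective (LinearMap.ext fun x => by simp),
      one_mul, mul_one]
  have hmul : ∀ f ∈ Z, ∀ g ∈ Z, f * g ∈ Z := fun f hf g hg φ => by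
    rw [← pf_mul, mul_assoc, hg φ, ← mul_assoc, hf φ, mul_assoc]
  have hlin : ∀ f ∈ Z, ∀ c d : L, (c • f + d • (1 : M → L)) ∈ Z := fun f hf c d φ => by
    have e : pf π (c • f + d • (1 : M → L)) = c • pf π f + d • pf π (1 : M → L) := by
      simp only [pf, map_add, map_smul, LinearMap.add_comp, LinearMap.smul_comp]
    rw [e, WithConv.toConv_add, WithConv.toConv_smul, WithConv.toConv_smul, add_mul, mul_add, smul_mul_assoc,
      smul_mul_assoc, mul_smul_comm, mul_smul_comm, hf φ, hone φ]
  -- indicator functions of a point in a finite set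
  have hind : ∀ (S : Finset M) (m : M), ∃ f ∈ Z, f m = 1 ∧ ∀ n ∈ S, n ≠ m → f n = 0 := by
    intro S m
    induction S using Finset.induction with
    | empty => exact ⟨1, hone, rfl, fun n hn => absurd hn (Finset.notMem_empty n)⟩
    | insert n S _ ih =>
      obtain ⟨f, hf, hfm, hfS⟩ := ih
      by_cases hnm : n = m
      · exact ⟨f, hf, hfm, fun n' hn' hne => hfS n' ((Finset.mem_insert.1 hn').resolve_left (fun h => hne (h.trans hnm))) hne⟩
      · obtain ⟨i, hi⟩ : ∃ i, u i n ≠ u i m := by
          by_contra! hcon
          exact hnm (hu n m hcon)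
        refine ⟨f * ((u i m - u i n)⁻¹ • u i + (-(u i m - u i n)⁻¹ * u i n) • (1 : M → L)),
          hmul f hf _ (hlin _ (hc i) _ _), ?_, fun n' hn' hne => ?_⟩
        · simp only [Pi.mul_apply, Pi.add_apply, Pi.smul_apply, Pi.one_apply, hfm, smul_eq_mul, one_mul, mul_one]
          rw [show (u i m - u i n)⁻¹ * u i m + -(u i m - u i n)⁻¹ * u i n = (u i m - u i n)⁻¹ * (u i m - u i n) by ring,
            inv_mul_cancel₀ (sub_ne_zero.2 (Ne.symm hi))]
        · rcases Finset.mem_insert.1 hn' with rfl | h
          · simp only [Pi.mul_apply, Pi.add_apply, Pi.smul_apply, Pi.one_apply, smul_eq_mul, mul_one]; ring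
          · rw [Pi.mul_apply, hfS n' h hne, zero_mul]
  intro x
  rw [← sub_eq_zero, ← map_sub]
  let z := TensorProduct.map (π : A →ₗc[L] MonoidAlgebra L M).toLinearMap LinearMap.id
    (Coalgebra.comul (R := L) x - TensorProduct.comm L A A (Coalgebra.comul (R := L) x))
  let b := MonoidAlgebra.basis M L
  refine (TensorProduct.equivFinsuppOfBasisLeft b).injective (Finsupp.ext fun m => ?_)
  rw [map_zero, Finsupp.zero_apply]
  show TensorProduct.equivFinsuppOfBasisLeft b z m = 0
  obtain ⟨f, hf, hfm, hfS⟩ := hind (TensorProduct.equivFinsuppOfBasisLeft b z).support m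
  -- evaluating `f` picks the coordinate at `m`
  have e1 : TensorProduct.lid L A ((b.constr L f).rTensor A z) =
      (TensorProduct.equivFinsuppOfBasisLeft b z).sum fun n y => f n • y := by
    conv_lhs => rw [← (TensorProduct.equivFinsuppOfBasisLeft b).symm_apply_apply z,
      TensorProduct.equivFinsuppOfBasisLeft_symm_apply]
    simp [Finsupp.sum, map_sum, b, constr_single]
  have e2 : (TensorProduct.equivFinsuppOfBasisLeft b z).sum (fun n y => f n • y) =
      TensorProduct.equivFinsuppOfBasisLeft b z m := by
    rw [Finsupp.sum, Finset.sum_eq_single m (fun n hn hne => by rw [hfS n hn hne, zero_smul])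
      (fun hm => by rw [Finsupp.notMem_support_iff.1 hm, smul_zero]), hfm, one_smul]
  rw [← e2, ← e1]
  have e3 : ∀ w : A ⊗[L] A, TensorProduct.lid L A ((b.constr L f).rTensor A
      (TensorProduct.map (π : A →ₗc[L] MonoidAlgebra L M).toLinearMap LinearMap.id w)) =
      TensorProduct.lid L A ((pf π f).rTensor A w) := by
    intro w
    induction w with
    | zero => simp
    | add p q hp hq => simp only [map_add, hp, hq]
    | tmul p q => rfl
  have e4 : ∀ w : A ⊗[L] A, TensorProduct.lid L A ((pf π f).rTensor A (TensorProduct.comm L A A w)) =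
      TensorProduct.rid L A ((pf π f).lTensor A w) := by
    intro w
    induction w with
    | zero => simp
    | add p q hp hq => simp only [map_add, hp, hq]
    | tmul p q => simp
  rw [e3, map_sub, map_sub, e4]
  show lTr (k := L) (pf π f) x - fAct A (pf π f) x = 0
  refine (Module.forall_dual_apply_eq_zero_iff L _).1 fun θ => ?_
  rw [map_sub, apply_lTr, apply_fAct, hf θ, sub_self]

/-- functionals through a morphism to a group algebra have diagonalisable matrices -/
theorem diag_pf {ι : Type*} [Fintype ι] [DecidableEq ι] {a : Matrix ι ι A} (h : Gens L a) (f : M → L) :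
    ⨆ μ : L, Module.End.eigenspace (Matrix.toLin' (mat a (pf π f))) μ = ⊤ := by
  classical
  let c : ι × ι → M →₀ L := fun p => (MonoidAlgebra.basis M L).repr (π (a p.1 p.2))
  let S : Finset M := Finset.univ.biUnion fun p => (c p).support
  have hdec : ∀ g : M → L, mat a (pf π g) = ∑ m ∈ S, g m • mat a (pf π (Pi.single m 1)) := by
    intro g
    ext i j
    have key : ∀ g : M → L, pf π g (a i j) = ∑ m ∈ S, c (i, j) m * g m := fun g => by
      have hsub : (c (i, j)).support ⊆ S := fun x hx => Finset.mem_biUnion.2 ⟨(i, j), Finset.mem_univ _, hx⟩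
      rw [pf_apply, Module.Basis.constr_apply]
      exact Finsupp.sum_of_support_subset (c (i, j)) hsub (fun m a => a • g m) (fun _ _ => zero_smul _ _)
    rw [Matrix.sum_apply]
    simp only [Matrix.smul_apply, mat_apply, smul_eq_mul, key]
    refine Finset.sum_congr rfl fun m hm => ?_
    rw [Finset.sum_eq_single m (fun n _ hne => by rw [Pi.single_eq_of_ne hne, mul_zero]) (fun hn => absurd hm hn),
      Pi.single_eq_same, mul_one, mul_comm]
  have hP : ∀ m, mat a (pf π f) * mat a (pf π (Pi.single m 1)) = f m • mat a (pf π (Pi.single m 1)) := fun m => by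
    rw [← mat_mul h, pf_mul, show f * Pi.single m (1 : L) = f m • Pi.single m (1 : L) by
      funext n; by_cases hn : n = m <;> simp [hn]]
    ext i j
    simp [mat_apply, pf]
  rw [eq_top_iff]
  intro x _
  have h1 : mat a (pf π (1 : M → L)) = 1 := by
    ext i j; rw [mat_apply, pf_one, h.counit]
  have e : x = ∑ m ∈ S, Matrix.toLin' (mat a (pf π (Pi.single m 1))) x := by
    conv_lhs => rw [show x = Matrix.toLin' (1 : Matrix ι ι L) x by simp, ← h1, hdec 1]
    simp [LinearMap.sum_apply]
  rw [e]
  refine Submodule.sum_mem _ fun m _ => Submodule.mem_iSup_of_mem (f m) (Module.End.mem_eigenspace_iff.2 ?_)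
  rw [← LinearMap.comp_apply, ← Matrix.toLin'_mul, hP, map_smul, LinearMap.smul_apply]

theorem isTangent_pf (f : M → L) (hf : ∀ m n, f (m * n) = f m + f n) : IsTangent L A (pf π f) := by
  intro x y
  show (MonoidAlgebra.basis M L).constr L f (π (x * y)) = Coalgebra.counit x * _ + Coalgebra.counit y * _
  rw [map_mul, pf_apply, pf_apply, ← CoalgHomClass.counit_comp_apply π x, ← CoalgHomClass.counit_comp_apply π y]
  generalize π x = p
  generalize π y = q
  induction p using MonoidAlgebra.induction_on with
  | of m =>
    induction q using MonoidAlgebra.induction_on with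
    | of n =>
      simp only [MonoidAlgebra.of_apply, MonoidAlgebra.single_mul_single, mul_one, constr_single, hf,
        (MonoidAlgebra.isGroupLikeElem_single_one (R := L) (A := L) m).counit_eq_one,
        (MonoidAlgebra.isGroupLikeElem_single_one (R := L) (A := L) n).counit_eq_one, one_mul]
      ring
    | add q q' hq hq' => simp only [mul_add, map_add, hq, hq']; ring
    | smul c q hq => simp only [mul_smul_comm, map_smul, hq, smul_eq_mul]; ring
  | add p p' hp hp' => simp only [add_mul, map_add, hp, hp']; ring
  | smul c p hp => simp only [smul_mul_assoc, map_smul, hp, smul_eq_mul]; ring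

end Group

section Field

variable {k : Type u} [Field k] {A : Type u} [CommRing A] [HopfAlgebra k A] [Algebra.FiniteType k A]

local notation "L" => AlgebraicClosure k

/-- if all rational semisimple tangent vectors are central, the infinitesimal part of any torus is central -/
theorem centHom_of_forall_cent [Infinite k] (p r : ℕ) [CharP k p]
    (π : L ⊗[k] A →ₐc[L] MonoidAlgebra L (Multiplicative (Fin r → ZMod p)))
    (hall : ∀ s : A →ₗ[k] k, IsTangent k A s → IsDiagTangent s → Cent s) : CentHom π := by
  classical
  haveI : CharP L p := charP_of_injective_algebraMap (algebraMap k L).injective p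
  obtain ⟨d⟩ := exists_genData (k := k) (A := A)
  have hrat : ∀ v : A →ₗ[k] k, IsTangent k A v → ∀ φ : A →ₗ[k] k,
      adN (2 * Fintype.card d.ι + ringExpChar k ^ Fintype.card d.ι + 1) (mat d.a v) (mat d.a φ) = 0 := by
    intro v hv φ
    obtain ⟨s, h1, h2, h3⟩ := exists_semisimple d hv
    exact h3 (fun ψ => commute_of_cent d.gens (hall s h1 h2) ψ) φ _ (Nat.le_succ _)
  let hg := bcMat_gens L d.gens
  refine centHom_of_cent π (fun (i : Fin r) (m : Multiplicative (Fin r → ZMod p)) =>
    ZMod.castHom (dvd_refl p) L (m.toAdd i)) (fun m m' he => ?_) fun i => ?_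
  · refine Multiplicative.toAdd.injective (funext fun i => ?_)
    exact ZMod.castHom_injective L (he i)
  let f : Multiplicative (Fin r → ZMod p) → L := fun m => ZMod.castHom (dvd_refl p) L (m.toAdd i)
  have hw : IsTangent L (L ⊗[k] A) (pf π f) := isTangent_pf π f fun m n => by simp [f]
  refine cent_of_commute hg hw fun φ => ?_
  obtain ⟨S, g, hgt, hgS⟩ := exists_decomp L d.a (pf π f)
  obtain ⟨S', g', -, hgS'⟩ := exists_decomp L d.a φ
  refine commute_of_adN (N := 2 * Fintype.card d.ι + ringExpChar k ^ Fintype.card d.ι) (diag_pf π hg f) ?_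
  rw [adN_eq, hgS', map_sum]
  refine Finset.sum_eq_zero fun l _ => ?_
  rw [map_smul, ← adN_eq, hgS]
  refine smul_eq_zero_of_right _ ?_
  refine adN_generic (fun l : S => mat d.a (g l)) (mat d.a (g' l)) _ (fun c => ?_) _
  have htan : IsTangent k A (∑ l : S, c l • g l) := by
    intro x y
    simp only [LinearMap.sum_apply, LinearMap.smul_apply, hgt hw _ x y, smul_eq_mul, Finset.mul_sum,
      ← Finset.sum_add_distrib]
    exact Finset.sum_congr rfl fun l _ => by ring
  have := hrat _ htan (g' l)
  rwa [show mat d.a (∑ l : S, c l • g l) = ∑ l : S, c l • mat d.a (g l) by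
    ext i j; simp [mat_apply, Matrix.sum_apply]] at this

end Field

section Levels

variable {L : Type u} [Field L] {A : Type u} [CommRing A] [HopfAlgebra L A]

/-- reduction of characters -/
def redHom (r m : ℕ) : Multiplicative (Fin r → ℤ) →* Multiplicative (Fin r → ZMod m) :=
  AddMonoidHom.toMultiplicative ((Int.castAddHom (ZMod m)).compLeft (Fin r))

/-- a torus whose torsion levels are all central is central -/
theorem centHom_of_levels {r : ℕ} (π : A →ₐc[L] MonoidAlgebra L (Multiplicative (Fin r → ℤ))) (q : ℕ) (hq : 1 < q)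
    (h : ∀ n : ℕ, CentHom ((MonoidAlgebra.mapDomainBialgHom L (redHom r (q ^ n))).comp π)) : CentHom π := by
  classical
  intro x
  rw [← sub_eq_zero, ← map_sub]
  let b := MonoidAlgebra.basis (Multiplicative (Fin r → ℤ)) L
  let z := TensorProduct.map (π : A →ₗc[L] MonoidAlgebra L (Multiplicative (Fin r → ℤ))).toLinearMap LinearMap.id
    (Coalgebra.comul (R := L) x - TensorProduct.comm L A A (Coalgebra.comul (R := L) x))
  refine (TensorProduct.equivFinsuppOfBasisLeft b).injective ?_
  rw [map_zero]
  show TensorProduct.equivFinsuppOfBasisLeft b z = 0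
  let y := TensorProduct.equivFinsuppOfBasisLeft b z
  let B : ℕ := ∑ m ∈ y.support, ∑ i, (m.toAdd i).natAbs
  have hB : ∀ m ∈ y.support, ∀ i, (m.toAdd i).natAbs ≤ B := fun m hm i =>
    (Finset.single_le_sum (f := fun i => (m.toAdd i).natAbs) (fun _ _ => Nat.zero_le _) (Finset.mem_univ i)).trans
      (Finset.single_le_sum (f := fun m : Multiplicative (Fin r → ℤ) => ∑ i, (m.toAdd i).natAbs)
        (fun _ _ => Nat.zero_le _) hm)
  obtain ⟨n, hn⟩ : ∃ n, 2 * B < q ^ n := ⟨2 * B, Nat.lt_pow_self hq⟩
  have hinj : Set.InjOn (redHom r (q ^ n)) y.support := by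
    intro m hm m' hm' he
    refine Multiplicative.toAdd.injective (funext fun i => ?_)
    have e : ((m.toAdd i : ℤ) : ZMod (q ^ n)) = ((m'.toAdd i : ℤ) : ZMod (q ^ n)) :=
      congrFun (congrArg Multiplicative.toAdd he) i
    rw [ZMod.intCast_eq_intCast_iff_dvd_sub] at e
    have h1 := hB m hm i
    have h2 := hB m' hm' i
    by_contra hne
    have h3 := Int.natAbs_dvd_natAbs.2 e
    rw [Int.natAbs_natCast] at h3
    have h4 := Nat.le_of_dvd (Int.natAbs_pos.2 (sub_ne_zero.2 (Ne.symm hne))) h3
    have h5 := Int.natAbs_sub_le (m'.toAdd i) (m.toAdd i)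
    omega
  let b' := MonoidAlgebra.basis (Multiplicative (Fin r → ZMod (q ^ n))) L
  have hlev := h n x
  let R : MonoidAlgebra L (Multiplicative (Fin r → ℤ)) →ₗ[L] MonoidAlgebra L (Multiplicative (Fin r → ZMod (q ^ n))) :=
    ((MonoidAlgebra.mapDomainBialgHom L (redHom r (q ^ n)) : MonoidAlgebra L (Multiplicative (Fin r → ℤ)) →ₐc[L]
        MonoidAlgebra L (Multiplicative (Fin r → ZMod (q ^ n)))) :
      MonoidAlgebra L (Multiplicative (Fin r → ℤ)) →ₗc[L]
        MonoidAlgebra L (Multiplicative (Fin r → ZMod (q ^ n)))).toLinearMap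
  have e1 : ∀ w : A ⊗[L] A, TensorProduct.map
      (((MonoidAlgebra.mapDomainBialgHom L (redHom r (q ^ n))).comp π : A →ₐc[L] _) : A →ₗc[L] _).toLinearMap
        LinearMap.id w =
      R.rTensor A
        (TensorProduct.map (π : A →ₗc[L] MonoidAlgebra L (Multiplicative (Fin r → ℤ))).toLinearMap LinearMap.id w) := by
    intro w
    induction w with
    | zero => simp
    | add p q hp hq => simp only [map_add, hp, hq]
    | tmul p q => rfl
  rw [← sub_eq_zero, ← map_sub, e1] at hlev
  have e2 : ∀ w : MonoidAlgebra L (Multiplicative (Fin r → ℤ)) ⊗[L] A,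
      TensorProduct.equivFinsuppOfBasisLeft b'
        (R.rTensor A w) =
      (TensorProduct.equivFinsuppOfBasisLeft b w).mapDomain (redHom r (q ^ n)) := by
    intro w
    conv_lhs => rw [← (TensorProduct.equivFinsuppOfBasisLeft b).symm_apply_apply w,
      TensorProduct.equivFinsuppOfBasisLeft_symm_apply]
    generalize TensorProduct.equivFinsuppOfBasisLeft b w = c
    induction c using Finsupp.induction_linear with
    | zero => simp
    | add p q hp hq =>
      rw [Finsupp.sum_add_index' (by simp) (by intros; simp [tmul_add]), map_add, map_add, hp, hq,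
        Finsupp.mapDomain_add]
    | single m a =>
      rw [Finsupp.sum_single_index (by simp), LinearMap.rTensor_tmul, Finsupp.mapDomain_single]
      refine (congrArg (fun t => TensorProduct.equivFinsuppOfBasisLeft b' (t ⊗ₜ[L] a))
        (show _ = b' (redHom r (q ^ n) m) from ?_)).trans ?_
      · simp [R, b, b', MonoidAlgebra.basis_apply]
      · simp
  have e3 := e2 z
  rw [hlev, map_zero] at e3
  exact Finsupp.mapDomain_injOn (y.support : Set _) hinj (by exact fun _ h => h) (by simp) (e3.symm.trans (by simp))

end Levels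

end Groth.L24.TorusField
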