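import Groth.Agent.L24.TorusField.Criteria

/-!
# Connected subgroups of multiplicative type lie in maximal tori over the field
-/

set_option autoImplicit false
set_option backward.isDefEq.respectTransparency false
set_option backward.isDefEq.respectTransparency.types false
set_option linter.style.haveILetI false

universe u

open CategoryTheory CategoryTheory.Limits MonoidalCategory CartesianMonoidalCategory MonObj GrpObj AlgebraicGeometry

noncomputable section

namespace Groth.L24.TorusField

variable {k : Type u} [Field k] {G T : Over (Spec (CommRingCat.of k))} [GrpObj G] [GrpObj T]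

/-- every connected subgroup of multiplicative type is contained in a maximal torus defined over the field -/
theorem exists_maximalTorus_containing_multType [IsAffine G.left] [Smooth G.hom] (i : T ⟶ G) [IsMonHom i]
    (hm : SGA3x.IsMultTypeFT T) [ConnectedSpace T.left] :
    ∃ (T₂ : Over (Spec (CommRingCat.of k))) (_ : GrpObj T₂) (i₂ : T₂ ⟶ G) (w : T ⟶ T₂),
      Red.IsMaximalTorus i₂ ∧ w ≫ i₂ = i := by
  haveI : IsAffineHom G.hom := inferInstance
  obtain ⟨Z, gZ, z, hZ, hzc, hZs⟩ := Groth.Agent.S5247.result T G hm inferInstance inferInstance i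
  haveI := hzc; haveI := hZs; haveI := hZ.1; haveI := hZ.2.1
  haveI : IsAffine Z.left := isAffine_of_isAffineHom z.left
  haveI : LocallyOfFiniteType Z.hom := inferInstance
  obtain ⟨C, gC, j, hj⟩ := Groth.L08.Chev.exists_idComp Z
  haveI := hj.hom; haveI := hj.closedImm; haveI := hj.openImm
  haveI := hj.smooth; haveI := hj.isAffine; haveI := hj.connectedSpace
  haveI : Mono j := Groth.L08.mono_of_closedImmersion j
  haveI : IsAffineHom C.hom := inferInstance
  obtain ⟨T₂, g₂, i₂, h₂⟩ := exists_maximalTorus_connected C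
  haveI := h₂.1; haveI := h₂.2.1
  obtain ⟨uZ, huZ⟩ := (hZ.2.2 T i).2 fun X' x h => by
    rw [← MonObj.mul_comp, ← MonObj.mul_comp, Groth.L25.Central.mul_comm_of_multTypeFT hm]
  haveI : IsMonHom uZ := Groth.L08.Borel.isMonHom_of_comp_mono uZ z i huZ
  obtain ⟨uC, huC⟩ := hj.exists_lift_hom uZ
  haveI : IsMonHom uC := Groth.L08.Borel.isMonHom_of_comp_mono uC j uZ huC
  have hfull : uC ≫ j ≫ z = i := by rw [reassoc_of% huC, huZ]
  haveI : Mono (j ≫ z) := inferInstance
  obtain ⟨w, hw⟩ := Groth.Agent.S8398.result _ C isConnected_fibre T₂ i₂ h₂ T hm uC (fun X x g => by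
    have e := (hZ.2.2 X (g ≫ j ≫ z)).1 ⟨g ≫ j, by rw [Category.assoc]⟩ X (𝟙 X) x
    rw [Category.id_comp] at e
    rw [← cancel_mono (j ≫ z), MonObj.mul_comp, MonObj.mul_comp, Category.assoc, hfull]
    exact e.symm)
  exact ⟨T₂, g₂, i₂ ≫ j ≫ z, w, isMaximalTorus_comp_centralizer hm hZ hj h₂, by rw [reassoc_of% hw, hfull]⟩

end Groth.L24.TorusField
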