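import Groth.Agent.L01.Unip.Conv
import Groth.Agent.L08.Dual
import Groth.Agent.L25.MultType.Subgroup
import Groth.Agent.L25.LargestMult.Main
import Mathlib.RingTheory.HopfAlgebra.Quotient
import Mathlib.RingTheory.Bialgebra.TensorProduct
import Mathlib.FieldTheory.IsAlgClosed.AlgebraicClosure
import Mathlib.LinearAlgebra.Eigenspace.Basic

/-!
# The subgroup generated by a semisimple tangent vector
-/

set_option autoImplicit false

universe u

open TensorProduct WithConv

noncomputable section

namespace Groth.L24.TorusField

open Groth.L08 Groth.L08.AugGraded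

variable {k : Type u} [Field k] {A : Type u} [CommRing A] [HopfAlgebra k A]

local notation "ε" => Bialgebra.counitAlgHom k A

/-- a translation commutes with comultiplication -/
theorem comul_fAct (φ : A →ₗ[k] k) (a : A) :
    Coalgebra.comul (R := k) (fAct A φ a) = (fAct A φ).lTensor A (Coalgebra.comul (R := k) a) := by
  let T : A ⊗[k] (A ⊗[k] A) →ₗ[k] A ⊗[k] A := ((TensorProduct.rid k A).toLinearMap ∘ₗ φ.lTensor A).lTensor A
  have h1 : ∀ y : A ⊗[k] A, T (TensorProduct.assoc k A A A ((Coalgebra.comul (R := k)).rTensor A y)) =
      Coalgebra.comul (R := k) (TensorProduct.rid k A (φ.lTensor A y)) := by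
    intro y
    induction y with
    | zero => simp
    | add p q hp hq => simp only [map_add, hp, hq]
    | tmul x z =>
      simp only [LinearMap.rTensor_tmul, LinearMap.lTensor_tmul, TensorProduct.rid_tmul, map_smul]
      induction Coalgebra.comul (R := k) x with
      | zero => simp
      | add p q hp hq => simp only [map_add, add_tmul, hp, hq, smul_add]
      | tmul p q => simp [T, tmul_smul]
  have h2 : ∀ y : A ⊗[k] A, T ((Coalgebra.comul (R := k)).lTensor A y) = (fAct A φ).lTensor A y := by
    intro y
    induction y with
    | zero => simp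
    | add p q hp hq => simp only [map_add, hp, hq]
    | tmul x z => simp only [T, LinearMap.lTensor_tmul]; rfl
  show Coalgebra.comul (R := k) (TensorProduct.rid k A (φ.lTensor A (Coalgebra.comul (R := k) a))) = _
  rw [← h1, Coalgebra.coassoc_apply, h2]

/-- tangent vectors vanish on constants -/
theorem tangent_algebraMap {s : A →ₗ[k] k} (hs : IsTangent k A s) (c : k) : s (algebraMap k A c) = 0 := by
  have h1 : s 1 = 0 := by simpa using hs 1 1
  rw [Algebra.algebraMap_eq_smul_one, map_smul, h1, smul_zero]

theorem tangent_antipode {s : A →ₗ[k] k} (hs : IsTangent k A s) (a : A) :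
    s (HopfAlgebra.antipode k a) = - s a := by
  have e1 := congrArg s (HopfAlgebra.mul_antipode_lTensor_comul_apply (R := k) a)
  rw [tangent_algebraMap hs] at e1
  have e2 : ∀ y : A ⊗[k] A, s (LinearMap.mul' k A ((HopfAlgebra.antipode k).lTensor A y)) =
      s (HopfAlgebra.antipode k (TensorProduct.lid k A ((Coalgebra.counit (R := k)).rTensor A y))) +
        Coalgebra.counit (R := k) (HopfAlgebra.antipode k
          (TensorProduct.lid k A (s.rTensor A y))) := by
    intro y
    induction y with
    | zero => simp
    | add p q hp hq => simp only [map_add, hp, hq]; ring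
    | tmul x z =>
      simp only [LinearMap.lTensor_tmul, LinearMap.mul'_apply, LinearMap.rTensor_tmul, TensorProduct.lid_tmul,
        map_smul, smul_eq_mul, hs x (HopfAlgebra.antipode k z), Bialgebra.counitAlgHom_apply]
      ring
  rw [e2] at e1
  rw [show TensorProduct.lid k A ((Coalgebra.counit (R := k)).rTensor A (Coalgebra.comul (R := k) a)) = a by
    rw [Coalgebra.rTensor_counit_comul, TensorProduct.lid_tmul, one_smul]] at e1
  rw [HopfAlgebra.counit_antipode] at e1
  have e3 : Coalgebra.counit (R := k) (TensorProduct.lid k A (s.rTensor A (Coalgebra.comul (R := k) a))) = s a := by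
    have e4 : ∀ y : A ⊗[k] A, Coalgebra.counit (R := k) (TensorProduct.lid k A (s.rTensor A y)) =
        s (TensorProduct.rid k A ((Coalgebra.counit (R := k)).lTensor A y)) := by
      intro y
      induction y with
      | zero => simp
      | add p q hp hq => simp only [map_add, hp, hq]
      | tmul x z => simp [mul_comm]
    rw [e4, Coalgebra.lTensor_counit_comul, TensorProduct.rid_tmul, one_smul]
  rw [e3] at e1
  linear_combination e1

variable (s : A →ₗ[k] k)

/-- the convolution powers -/
def pw (i : ℕ) : A →ₗ[k] k := Coalgebra.counit ∘ₗ ((fAct A s) ^ i : Module.End k A)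

theorem pw_zero (a : A) : pw s 0 a = ε a := by simp [pw]

theorem pw_succ (i : ℕ) (a : A) : pw s (i + 1) a = pw s i (fAct A s a) := by
  simp [pw, pow_succ, Module.End.mul_apply]

theorem pw_succ' (i : ℕ) (a : A) : pw s (i + 1) a = s (((fAct A s) ^ i : Module.End k A) a) := by
  show Coalgebra.counit (R := k) (((fAct A s) ^ (i + 1) : Module.End k A) a) = _
  rw [pow_succ', Module.End.mul_apply, ← Bialgebra.counitAlgHom_apply, counit_fAct]

theorem pw_one (a : A) : pw s 1 a = s a := by rw [pw_succ']; simp

variable {s}

theorem pw_mul_eq_zero (hs : IsTangent k A s) : ∀ (i : ℕ) (a b : A), (∀ j, pw s j a = 0) → pw s i (b * a) = 0 := by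
  intro i
  induction i with
  | zero => intro a b h; rw [pw_zero, map_mul, ← pw_zero s a, h 0, mul_zero]
  | succ i ih =>
    intro a b h
    rw [pw_succ, fAct_leibniz hs, smul_eq_mul, smul_eq_mul, map_add, ih _ _ (fun j => by rw [← pw_succ]; exact h _),
      mul_comm a, ih _ _ h, add_zero]

/-- the ideal of the subgroup generated by a tangent vector -/
def J (hs : IsTangent k A s) : Ideal A where
  carrier := {a | ∀ i, pw s i a = 0}
  add_mem' ha hb i := by rw [map_add, ha i, hb i, add_zero]
  zero_mem' i := map_zero _
  smul_mem' b a ha i := pw_mul_eq_zero hs i a b ha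

variable (hs : IsTangent k A s)

theorem mem_J {a : A} : a ∈ J hs ↔ ∀ i, pw s i a = 0 := Iff.rfl

theorem fAct_mem_J {a : A} (ha : a ∈ J hs) : fAct A s a ∈ J hs := fun i => by rw [← pw_succ]; exact ha _

theorem antipode_mem_J : ∀ a ∈ J hs, HopfAlgebra.antipode k a ∈ J hs := by
  intro a ha
  rw [mem_J]
  intro i
  induction i generalizing a with
  | zero =>
    rw [pw_zero, Bialgebra.counitAlgHom_apply, HopfAlgebra.counit_antipode, ← Bialgebra.counitAlgHom_apply,
      ← pw_zero s, ha 0]
  | succ i ih =>
    -- transposing the functional `pw i * s` along the antipode gives `-(s * pw i)`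
    have key : ∀ y : A ⊗[k] A, pw s i (TensorProduct.rid k A (s.lTensor A
        (TensorProduct.map (HopfAlgebra.antipode k) (HopfAlgebra.antipode k) (TensorProduct.comm k A A y)))) =
        - pw s i (HopfAlgebra.antipode k (TensorProduct.lid k A (s.rTensor A y))) := by
      intro y
      induction y with
      | zero => simp
      | add p q hp hq => simp only [map_add, hp, hq]; ring
      | tmul x z => simp [tangent_antipode hs, mul_comm]
    rw [pw_succ, fAct_apply]
    show pw s i (TensorProduct.rid k A (s.lTensor A (Coalgebra.comul (R := k) (HopfAlgebra.antipode k a)))) = 0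
    rw [Groth.L08.comul_antipode, key, neg_eq_zero]
    refine ih _ fun j => ?_
    have e : ∀ y : A ⊗[k] A, pw s j (TensorProduct.lid k A (s.rTensor A y)) =
        s (TensorProduct.rid k A ((pw s j).lTensor A y)) := by
      intro y
      induction y with
      | zero => simp
      | add p q hp hq => simp only [map_add, hp, hq]
      | tmul x z => simp [mul_comm]
    rw [e]
    have e' : TensorProduct.rid k A ((pw s j).lTensor A (Coalgebra.comul (R := k) a)) =
        ((fAct A s) ^ j : Module.End k A) a := by
      have h1 : pw s j = (Coalgebra.counit (R := k) (A := A)) ∘ₗ ((fAct A s) ^ j : Module.End k A) := rfl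
      have h2 : ∀ (n : ℕ) (c : A), ((fAct A s) ^ n : Module.End k A).lTensor A (Coalgebra.comul (R := k) c) =
          Coalgebra.comul (R := k) (((fAct A s) ^ n : Module.End k A) c) := by
        intro n
        induction n with
        | zero => intro c; simp [show (1 : Module.End k A) = LinearMap.id from rfl]
        | succ n ihn =>
          intro c
          rw [pow_succ', show ((fAct A s : Module.End k A) * (fAct A s : Module.End k A) ^ n) =
            fAct A s ∘ₗ ((fAct A s : Module.End k A) ^ n) from rfl, LinearMap.lTensor_comp,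
            LinearMap.comp_apply, ihn, LinearMap.comp_apply, comul_fAct]
      rw [h1, LinearMap.lTensor_comp, LinearMap.comp_apply, h2, Coalgebra.lTensor_counit_comul,
        TensorProduct.rid_tmul, one_smul]
    rw [e', ← pw_succ']
    exact ha _

theorem isCoideal_J : ((J hs).restrictScalars k).IsCoideal := by
  let I : Submodule k A := (J hs).restrictScalars k
  refine Submodule.isCoideal_iff I |>.2 ⟨fun a ha => ?_, fun a ha => ?_⟩
  · rw [← Bialgebra.counitAlgHom_apply, ← pw_zero s]; exact ha 0
  · let b := Module.Free.chooseBasis k (A ⧸ I)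
    -- the coordinates of `(π ⊗ id) Δ a` lie in the ideal
    have h1 : ∀ l, TensorProduct.lid k A ((b.coord l).rTensor A (I.mkQ.rTensor A (Coalgebra.comul (R := k) a))) ∈ I := by
      intro l i
      have e : ∀ (f : A →ₗ[k] k) (y : A ⊗[k] A), f (TensorProduct.lid k A ((b.coord l).rTensor A (I.mkQ.rTensor A y))) =
          b.coord l (I.mkQ (TensorProduct.rid k A (f.lTensor A y))) := by
        intro f y
        induction y with
        | zero => simp
        | add p q hp hq => simp only [map_add, hp, hq]
        | tmul x z => simp [mul_comm]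
      rw [e]
      have e' : TensorProduct.rid k A ((pw s i).lTensor A (Coalgebra.comul (R := k) a)) =
          ((fAct A s) ^ i : Module.End k A) a := by
        induction i generalizing a with
        | zero =>
          rw [show pw s 0 = Coalgebra.counit (R := k) (A := A) from LinearMap.ext fun c => pw_zero s c,
            Coalgebra.lTensor_counit_comul, TensorProduct.rid_tmul, one_smul]
          simp
        | succ i ih =>
          rw [show pw s (i + 1) = pw s i ∘ₗ fAct A s from LinearMap.ext fun c => pw_succ s i c,
            LinearMap.lTensor_comp, LinearMap.comp_apply, ← comul_fAct, ih _ (fAct_mem_J hs ha),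
            pow_succ, Module.End.mul_apply]
      rw [e']
      have hm : ((fAct A s) ^ i : Module.End k A) a ∈ I := by
        intro j
        show Coalgebra.counit (R := k) (((fAct A s) ^ j : Module.End k A) (((fAct A s) ^ i : Module.End k A) a)) = 0
        rw [← Module.End.mul_apply, ← pow_add]
        exact ha _
      rw [show I.mkQ _ = 0 from (Submodule.Quotient.mk_eq_zero I).2 hm, map_zero]
    have h2 : TensorProduct.map I.mkQ I.mkQ (Coalgebra.comul (R := k) a) =
        (I.mkQ.lTensor (A ⧸ I)) (I.mkQ.rTensor A (Coalgebra.comul (R := k) a)) := by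
      rw [← LinearMap.lTensor_comp_rTensor]; rfl
    rw [h2]
    refine (TensorProduct.equivFinsuppOfBasisLeft b).injective (Finsupp.ext fun l => ?_)
    rw [map_zero, Finsupp.zero_apply]
    have e : ∀ y : (A ⧸ I) ⊗[k] A, TensorProduct.equivFinsuppOfBasisLeft b (I.mkQ.lTensor (A ⧸ I) y) l =
        I.mkQ (TensorProduct.lid k A ((b.coord l).rTensor A y)) := by
      intro y
      induction y with
      | zero => simp
      | add p q hp hq => simp only [map_add, Finsupp.add_apply, hp, hq]
      | tmul x z => simp [TensorProduct.equivFinsuppOfBasisLeft_apply_tmul_apply]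
    rw [e, Submodule.mkQ_apply, Submodule.Quotient.mk_eq_zero]
    exact h1 l

instance isHopfIdeal_J : (J hs).IsHopfIdeal k := by
  haveI := isCoideal_J hs
  exact ⟨fun a ha => antipode_mem_J hs a ha⟩

/-- the subgroup generated by a tangent vector has no idempotents -/
theorem eq_zero_or_one_of_idem {e : A ⧸ J hs} (he : IsIdempotentElem e) : e = 0 ∨ e = 1 := by
  obtain ⟨a, rfl⟩ := Ideal.Quotient.mk_surjective e
  have hmem : a * a - a ∈ J hs := Ideal.Quotient.eq.1 (show Ideal.Quotient.mk (J hs) (a * a) = Ideal.Quotient.mk (J hs) a by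
    rw [map_mul]; exact he)
  have hD : fAct A s a ∈ J hs := by
    have h := fAct_mem_J hs hmem
    rw [map_sub, fAct_leibniz hs, smul_eq_mul] at h
    have hx : (2 * a - 1) * fAct A s a ∈ J hs := by convert h using 1; ring
    have hsq : (2 * a - 1) * ((2 * a - 1) * fAct A s a) - fAct A s a = 4 * fAct A s a * (a * a - a) := by ring
    have := (J hs).sub_mem ((J hs).mul_mem_left (2 * a - 1) hx) ((J hs).mul_mem_left (4 * fAct A s a) hmem)
    rw [← hsq, sub_sub_cancel] at this
    exact this
  have he0 : IsIdempotentElem (ε a) := by
    have := hmem 0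
    rw [pw_zero, map_sub, map_mul, sub_eq_zero] at this
    exact this
  rcases IsIdempotentElem.iff_eq_zero_or_one.1 he0 with h | h
  · refine Or.inl (Ideal.Quotient.eq_zero_iff_mem.2 fun i => ?_)
    cases i with
    | zero => rw [pw_zero, h]
    | succ i => rw [pw_succ]; exact hD i
  · refine Or.inr ?_
    rw [← map_one (Ideal.Quotient.mk (J hs)), Ideal.Quotient.eq]
    intro i
    cases i with
    | zero => rw [pw_zero, map_sub, h, map_one, sub_self]
    | succ i =>
      rw [pw_succ, map_sub]
      have h1 : fAct A s (1 : A) = 0 := by simpa using fAct_leibniz hs (1 : A) 1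
      rw [h1, sub_zero]
      exact hD i

theorem nontrivial_quotient : Nontrivial (A ⧸ J hs) :=
  Ideal.Quotient.nontrivial_iff.2 fun h => by
    have := ((Ideal.eq_top_iff_one _).1 h) 0
    rw [pw_zero, map_one] at this
    exact one_ne_zero this

local notation "K" => AlgebraicClosure k

/-- the translation by a tangent vector is diagonalisable over an algebraic closure -/
def IsDiagTangent (s : A →ₗ[k] k) : Prop :=
  ⨆ μ : K, Module.End.eigenspace ((fAct A s).baseChange K) μ = ⊤

/-- the subgroup generated by a semisimple tangent vector is of multiplicative type -/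
theorem isMultTypeConst_quotient (hd : IsDiagTangent s) : SGA3b.IsMultTypeConst k (A ⧸ J hs) := by
  refine ⟨K, inferInstance, inferInstance, inferInstance, ?_⟩
  let π : K ⊗[k] A →ₐc[K] K ⊗[k] (A ⧸ J hs) :=
    Bialgebra.TensorProduct.map (BialgHom.id K K) (Bialgebra.Quotient.mkBialgHom (J hs))
  have hπ1 : ∀ (c : K) (a : A), π (c ⊗ₜ[k] a) = c ⊗ₜ[k] Ideal.Quotient.mk (J hs) a := fun _ _ => rfl
  have hπs : Function.Surjective π := fun y => by
    induction y with
    | zero => exact ⟨0, map_zero _⟩
    | add p q hp hq =>
      obtain ⟨a, rfl⟩ := hp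
      obtain ⟨b, rfl⟩ := hq
      exact ⟨a + b, map_add _ _ _⟩
    | tmul c a =>
      obtain ⟨a, rfl⟩ := Ideal.Quotient.mk_surjective a
      exact ⟨c ⊗ₜ[k] a, hπ1 c a⟩
  let D : Module.End K (K ⊗[k] A) := (fAct A s).baseChange K
  let εK : K ⊗[k] A →ₗ[K] K := Coalgebra.counit
  -- eigenvectors killed by the counit die in the quotient
  have hzero : ∀ (μ : K) (y : K ⊗[k] A), D y = μ • y → εK y = 0 → π y = 0 := by
    intro μ y hy h0
    have hpow : ∀ i : ℕ, (D ^ i) y = μ ^ i • y := by
      intro i
      induction i with
      | zero => simp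
      | succ i ih => rw [pow_succ', Module.End.mul_apply, ih, map_smul, hy, smul_smul, pow_succ]
    let b := Module.Free.chooseBasis k K
    have hc : ∀ l, TensorProduct.lid k A ((b.coord l).rTensor A y) ∈ J hs := by
      intro l i
      have e : ∀ z : K ⊗[k] A, pw s i (TensorProduct.lid k A ((b.coord l).rTensor A z)) =
          b.coord l (εK ((D ^ i) z)) := by
        intro z
        have e1 : (D ^ i) = ((fAct A s) ^ i : Module.End k A).baseChange K :=
          (map_pow (Module.End.baseChangeHom k K A) (fAct A s) i).symm
        rw [e1]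
        induction z with
        | zero => simp
        | add p q hp hq => simp only [map_add, hp, hq]
        | tmul c a => simp [εK, pw, mul_comm]
      rw [e, hpow, map_smul, h0, smul_zero, map_zero]
    have e2 : ∀ z : K ⊗[k] A, π z = ((Ideal.Quotient.mkₐ k (J hs)).toLinearMap.lTensor K) z := by
      intro z
      induction z with
      | zero => simp
      | add p q hp hq => simp only [map_add, hp, hq]
      | tmul c a => simp [hπ1]
    rw [e2]
    refine (TensorProduct.equivFinsuppOfBasisLeft b).injective (Finsupp.ext fun l => ?_)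
    rw [map_zero, Finsupp.zero_apply]
    have e3 : ∀ z : K ⊗[k] A, TensorProduct.equivFinsuppOfBasisLeft b
        ((Ideal.Quotient.mkₐ k (J hs)).toLinearMap.lTensor K z) l =
        Ideal.Quotient.mk (J hs) (TensorProduct.lid k A ((b.coord l).rTensor A z)) := by
      intro z
      induction z with
      | zero => simp
      | add p q hp hq => simp only [map_add, Finsupp.add_apply, hp, hq]
      | tmul c a => simp [TensorProduct.equivFinsuppOfBasisLeft_apply_tmul_apply, Algebra.smul_def]
    rw [e3, Ideal.Quotient.eq_zero_iff_mem]
    exact hc l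
  have hΔD : ∀ z : K ⊗[k] A, Coalgebra.comul (R := K) (D z) = D.lTensor (K ⊗[k] A) (Coalgebra.comul (R := K) z) := by
    intro z
    induction z with
    | zero => simp
    | add p q hp hq => simp only [map_add, hp, hq]
    | tmul c a =>
      simp only [D, LinearMap.baseChange_tmul, TensorProduct.comul_tmul, CommSemiring.comul_apply, comul_fAct]
      induction Coalgebra.comul (R := k) a with
      | zero => simp
      | add p q hp hq => simp only [map_add, tmul_add, hp, hq]
      | tmul p q => simp
  have hspan : ∀ y : K ⊗[k] (A ⧸ J hs), y ∈ Submodule.span K {g : K ⊗[k] (A ⧸ J hs) | IsGroupLikeElem K g} := by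
    intro y
    obtain ⟨x, rfl⟩ := hπs y
    have hx : x ∈ (⨆ μ : K, Module.End.eigenspace D μ) := by rw [show (⨆ μ : K, Module.End.eigenspace D μ) = ⊤ from hd]; trivial
    refine Submodule.iSup_induction _ (motive := fun x => π x ∈ Submodule.span K {g | IsGroupLikeElem K g}) hx
      (fun μ v hv => ?_) (by rw [map_zero]; exact Submodule.zero_mem _)
      fun p q hp hq => by rw [map_add]; exact Submodule.add_mem _ hp hq
    rw [Module.End.mem_eigenspace_iff] at hv
    by_cases h0 : εK v = 0
    · rw [hzero μ v hv h0]; exact Submodule.zero_mem _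
    let w : K ⊗[k] A := (εK v)⁻¹ • v
    have hw : D w = μ • w := by rw [show D w = (εK v)⁻¹ • D v from map_smul D _ _, hv, smul_comm]
    have hw1 : εK w = 1 := by simp only [w, map_smul, smul_eq_mul, inv_mul_cancel₀ h0]
    have hy : ∀ z, D z = μ • z → π z = εK z • π w := by
      intro z hz
      have := hzero μ (z - εK z • w) (by rw [map_sub, map_smul, hz, hw, smul_sub, smul_comm])
        (by rw [map_sub, map_smul, hw1, smul_eq_mul, mul_one, sub_self])
      rwa [map_sub, map_smul, sub_eq_zero] at this
    have hg : IsGroupLikeElem K (π w) := by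
      refine ⟨(CoalgHomClass.counit_comp_apply π w).trans hw1, ?_⟩
      have hker : Coalgebra.comul (R := K) w ∈ LinearMap.ker ((D - algebraMap K (Module.End K (K ⊗[k] A)) μ).lTensor (K ⊗[k] A)) := by
        rw [LinearMap.mem_ker, LinearMap.lTensor_sub, LinearMap.sub_apply, ← hΔD, hw, map_smul, sub_eq_zero]
        induction Coalgebra.comul (R := K) w with
        | zero => simp
        | add p q hp hq => simp only [map_add, smul_add, hp, hq]
        | tmul p q => simp [TensorProduct.smul_tmul']
      have hex := Module.Flat.lTensor_exact (K ⊗[k] A)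
        (LinearMap.exact_subtype_ker_map (D - algebraMap K (Module.End K (K ⊗[k] A)) μ))
      obtain ⟨z, hz⟩ := (hex _).1 (LinearMap.mem_ker.1 hker)
      let π' : K ⊗[k] A →ₗ[K] K ⊗[k] (A ⧸ J hs) := (π : K ⊗[k] A →ₐ[K] K ⊗[k] (A ⧸ J hs)).toLinearMap
      have hmap : ∀ t : (K ⊗[k] A) ⊗[K] LinearMap.ker (D - algebraMap K (Module.End K (K ⊗[k] A)) μ),
          TensorProduct.map π' π' ((LinearMap.ker _).subtype.lTensor _ t) =
          π (TensorProduct.rid K _ (εK.lTensor _ ((LinearMap.ker _).subtype.lTensor _ t))) ⊗ₜ[K] π w := by
        intro t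
        induction t with
        | zero => simp
        | add p q hp hq => simp only [map_add, hp, hq, add_tmul]
        | tmul p q =>
          have hq : D (q : K ⊗[k] A) = μ • (q : K ⊗[k] A) := by
            have := q.2
            rw [LinearMap.mem_ker, LinearMap.sub_apply, sub_eq_zero] at this
            exact this
          simp only [LinearMap.lTensor_tmul, TensorProduct.map_tmul, TensorProduct.rid_tmul, Submodule.coe_subtype,
            map_smul]
          rw [show π' (q : K ⊗[k] A) = εK q • π w from hy _ hq]
          rw [TensorProduct.tmul_smul, TensorProduct.smul_tmul']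
          rfl
      refine (CoalgHomClass.map_comp_comul_apply π w).symm.trans ?_
      show TensorProduct.map π' π' (Coalgebra.comul (R := K) w) = _
      rw [← hz, hmap, hz, Coalgebra.lTensor_counit_comul, TensorProduct.rid_tmul, one_smul]
    rw [hy v hv]
    exact Submodule.smul_mem _ _ (Submodule.subset_span hg)
  refine Groth.L25.MultType.isDiag_of_surjective (M := GroupLike K (K ⊗[k] (A ⧸ J hs)))
    MonoidAlgebra.liftGroupLikeBialgHom (fun y => ?_) linearIndep_groupLikeVal
  induction hspan y using Submodule.span_induction with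
  | zero => exact ⟨0, map_zero _⟩
  | add a b _ _ ha hb =>
    obtain ⟨p, rfl⟩ := ha
    obtain ⟨q, rfl⟩ := hb
    exact ⟨p + q, map_add _ _ _⟩
  | smul r a _ ha =>
    obtain ⟨p, rfl⟩ := ha
    exact ⟨r • p, map_smul _ r p⟩
  | mem g hg => exact ⟨MonoidAlgebra.single ⟨g, hg⟩ 1, by simp⟩

end Groth.L24.TorusField
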