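import Groth.Agent.L24.TorusField.Deriv
import Mathlib.LinearAlgebra.Eigenspace.Semisimple
import Mathlib.LinearAlgebra.Matrix.ToLin
import Mathlib.Algebra.MvPolynomial.Funext

/-!
# Tangent vectors read in a generating matrix of coefficients
-/

set_option autoImplicit false
set_option backward.isDefEq.respectTransparency false

universe u v

open TensorProduct WithConv

noncomputable section

namespace Groth.L24.TorusField

open Groth.L08 Groth.L08.AugGraded

section Basic

variable (k : Type u) [Field k] {A : Type u} [CommRing A] [HopfAlgebra k A] {ι : Type v}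
  [Fintype ι] [DecidableEq ι]

/-- a generating matrix of coefficients -/
structure Gens (a : Matrix ι ι A) : Prop where
  comul : ∀ i j, Coalgebra.comul (R := k) (a i j) = ∑ l, a i l ⊗ₜ[k] a l j
  counit : ∀ i j, Coalgebra.counit (R := k) (a i j) = (1 : Matrix ι ι k) i j
  gen : Algebra.adjoin k (Set.range fun p : ι × ι => a p.1 p.2) = ⊤

variable {k} (a : Matrix ι ι A)

/-- the matrix of a functional -/
def mat (φ : A →ₗ[k] k) : Matrix ι ι k := Matrix.of fun i j => φ (a i j)

variable {a} (h : Gens k a)

theorem mat_apply (φ : A →ₗ[k] k) (i j : ι) : mat a φ i j = φ (a i j) := rfl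

include h

theorem fAct_gen (φ : A →ₗ[k] k) (i j : ι) : fAct A φ (a i j) = ∑ l, φ (a l j) • a i l := by
  show TensorProduct.rid k A (φ.lTensor A (Coalgebra.comul (R := k) (a i j))) = _
  simp [h.comul, map_sum]

theorem lTr_gen (φ : A →ₗ[k] k) (i j : ι) : lTr (k := k) φ (a i j) = ∑ l, φ (a i l) • a l j := by
  show TensorProduct.lid k A (φ.rTensor A (Coalgebra.comul (R := k) (a i j))) = _
  simp [h.comul, map_sum]

theorem mat_mul (φ ψ : A →ₗ[k] k) : mat a (toConv φ * toConv ψ).ofConv = mat a φ * mat a ψ := by
  ext i j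
  simp [mat_apply, Matrix.mul_apply, LinearMap.convMul_apply, h.comul, map_sum]

omit h

/-- central tangent vectors -/
def Cent (s : A →ₗ[k] k) : Prop := ∀ φ : A →ₗ[k] k, toConv s * toConv φ = toConv φ * toConv s

theorem apply_fAct (φ s : A →ₗ[k] k) (x : A) : φ (fAct A s x) = (toConv φ * toConv s).ofConv x := by
  show φ (TensorProduct.rid k A (s.lTensor A (Coalgebra.comul (R := k) x))) = (toConv φ * toConv s) x
  rw [LinearMap.convMul_apply]
  induction Coalgebra.comul (R := k) x with
  | zero => simp
  | add p q hp hq => simp only [map_add, hp, hq]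
  | tmul p q => simp [mul_comm]

theorem apply_lTr (φ s : A →ₗ[k] k) (x : A) : φ (lTr (k := k) s x) = (toConv s * toConv φ).ofConv x := by
  show φ (TensorProduct.lid k A (s.rTensor A (Coalgebra.comul (R := k) x))) = (toConv s * toConv φ) x
  rw [LinearMap.convMul_apply]
  induction Coalgebra.comul (R := k) x with
  | zero => simp
  | add p q hp hq => simp only [map_add, hp, hq]
  | tmul p q => simp [mul_comm]

theorem lTr_leibniz {w : A →ₗ[k] k} (hw : IsTangent k A w) (x y : A) :
    lTr (k := k) w (x * y) = x * lTr (k := k) w y + y * lTr (k := k) w x := by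
  have e : ∀ c : A, c = TensorProduct.lid k A (LinearMap.rTensor A (Coalgebra.counit (R := k))
      (Coalgebra.comul (R := k) c)) := fun c => by
    rw [Coalgebra.rTensor_counit_comul, TensorProduct.lid_tmul, one_smul]
  conv_rhs => arg 1; rw [e x]
  conv_rhs => arg 2; rw [e y]
  show TensorProduct.lid k A (w.rTensor A (Coalgebra.comul (R := k) (x * y))) =
    _ * TensorProduct.lid k A (w.rTensor A (Coalgebra.comul (R := k) y)) +
      _ * TensorProduct.lid k A (w.rTensor A (Coalgebra.comul (R := k) x))
  simp only [Bialgebra.comul_mul]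
  generalize Coalgebra.comul (R := k) x = s
  generalize Coalgebra.comul (R := k) y = t
  induction s using TensorProduct.induction_on with
  | zero => simp
  | add p q hp hq => simp only [add_mul, map_add, hp, hq, mul_add]; ring
  | tmul p q =>
    induction t using TensorProduct.induction_on with
    | zero => simp
    | add p' q' hp hq => simp only [mul_add, map_add, hp, hq, add_mul]; ring
    | tmul p' q' =>
      simp only [Algebra.TensorProduct.tmul_mul_tmul, LinearMap.rTensor_tmul, TensorProduct.lid_tmul,
        hw p p', Bialgebra.counitAlgHom_apply, Algebra.smul_def, map_add, map_mul]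
      ring

include h

/-- a tangent vector commuting with the coefficient matrices is central -/
theorem cent_of_commute {s : A →ₗ[k] k} (hs : IsTangent k A s)
    (hc : ∀ φ : A →ₗ[k] k, Commute (mat a s) (mat a φ)) : Cent s := by
  intro φ
  suffices e : ∀ x, fAct A s x = lTr (k := k) s x from
    WithConv.ofConv_injective (LinearMap.ext fun x => by rw [← apply_lTr, ← apply_fAct, e])
  intro x
  have hx : x ∈ Algebra.adjoin k (Set.range fun p : ι × ι => a p.1 p.2) := by rw [h.gen]; trivial
  induction hx using Algebra.adjoin_induction with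
  | mem y hy =>
    obtain ⟨⟨i, j⟩, rfl⟩ := hy
    refine sub_eq_zero.1 ((Module.forall_dual_apply_eq_zero_iff k _).1 fun θ => ?_)
    rw [map_sub, apply_fAct, apply_lTr, sub_eq_zero]
    show mat a (toConv θ * toConv s).ofConv i j = mat a (toConv s * toConv θ).ofConv i j
    rw [mat_mul h, mat_mul h, (hc θ).eq]
  | algebraMap c =>
    rw [Algebra.algebraMap_eq_smul_one, map_smul, map_smul]
    have h1 : fAct A s (1 : A) = 0 := by simpa using fAct_leibniz hs (1 : A) 1
    have h2 : lTr (k := k) s (1 : A) = 0 := by simpa using lTr_leibniz hs (1 : A) 1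
    rw [h1, h2]
  | add p q _ _ hp hq => rw [map_add, map_add, hp, hq]
  | mul p q _ _ hp hq => rw [fAct_leibniz hs, lTr_leibniz hs, hp, hq, smul_eq_mul, smul_eq_mul]

/-- central functionals have commuting matrices -/
theorem commute_of_cent {s : A →ₗ[k] k} (hc : Cent s) (φ : A →ₗ[k] k) : Commute (mat a s) (mat a φ) := by
  rw [Commute, SemiconjBy, ← mat_mul h, ← mat_mul h, hc φ]

end Basic

section AdN

variable {R : Type*} [CommRing R] {ι : Type v} [Fintype ι] [DecidableEq ι]

/-- iterated commutators -/
def adN (N : ℕ) (X Y : Matrix ι ι R) : Matrix ι ι R := (fun Z => X * Z - Z * X)^[N] Y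

theorem adN_map {R' : Type*} [CommRing R'] (f : R →+* R') (N : ℕ) (X Y : Matrix ι ι R) :
    (adN N X Y).map f = adN N (X.map f) (Y.map f) := by
  induction N with
  | zero => rfl
  | succ N ih =>
    rw [adN, adN, Function.iterate_succ_apply', Function.iterate_succ_apply', ← adN, ← adN, ← ih,
      Matrix.map_sub _ (fun x y => map_sub f x y), Matrix.map_mul, Matrix.map_mul]

/-- iterated commutators vanishing at all rational points vanish at all points -/
theorem adN_generic {k K : Type*} [Field k] [Field K] [Algebra k K] [Infinite k] {σ : Type*} [Fintype σ]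
    (M : σ → Matrix ι ι k) (Y : Matrix ι ι k) (N : ℕ) (h : ∀ c : σ → k, adN N (∑ l, c l • M l) Y = 0)
    (c : σ → K) : adN N (∑ l, c l • (M l).map (algebraMap k K)) (Y.map (algebraMap k K)) = 0 := by
  let X : Matrix ι ι (MvPolynomial σ k) :=
    ∑ l, (MvPolynomial.X l : MvPolynomial σ k) • (M l).map (MvPolynomial.C : k →+* MvPolynomial σ k)
  let P := adN N X (Y.map (MvPolynomial.C : k →+* MvPolynomial σ k))
  have hP : P = 0 := by
    ext i j : 1
    refine MvPolynomial.funext fun x => ?_
    have e := congrFun (congrFun (adN_map (MvPolynomial.eval x) N X (Y.map MvPolynomial.C)) i) j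
    rw [show X.map (MvPolynomial.eval x) = ∑ l, x l • M l by
        ext p q; simp [X, Matrix.sum_apply, Matrix.map_apply, map_sum],
      show (Y.map (MvPolynomial.C : k →+* MvPolynomial σ k)).map (MvPolynomial.eval x) = Y by
        ext p q; simp [Matrix.map_apply], h x] at e
    simpa [Matrix.map_apply] using e
  have e := adN_map (MvPolynomial.eval₂Hom (algebraMap k K) c) N X (Y.map MvPolynomial.C)
  rw [show adN N X (Y.map (MvPolynomial.C : k →+* MvPolynomial σ k)) = 0 from hP,
    show X.map (MvPolynomial.eval₂Hom (algebraMap k K) c) = ∑ l, c l • (M l).map (algebraMap k K) by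
      ext p q; simp [X, Matrix.sum_apply, Matrix.map_apply, map_sum],
    show (Y.map (MvPolynomial.C : k →+* MvPolynomial σ k)).map (MvPolynomial.eval₂Hom (algebraMap k K) c) =
        Y.map (algebraMap k K) by ext p q; simp [Matrix.map_apply],
    Matrix.map_zero _ (map_zero _)] at e
  exact e.symm

end AdN

section Eigen

variable {K : Type*} [Field K] {V : Type*} [AddCommGroup V] [Module K V]

/-- for a diagonalisable endomorphism kernels of powers are eigenspaces -/
theorem eigen_of_pow {f : Module.End K V} (hd : ⨆ μ, f.eigenspace μ = ⊤) (μ : K) :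
    ∀ (N : ℕ) (y : V), ((f - algebraMap K (Module.End K V) μ) ^ (N + 1)) y = 0 → f y = μ • y := by
  let g : Module.End K V := f - algebraMap K (Module.End K V) μ
  have hg : ∀ y, g y = f y - μ • y := fun y => rfl
  have hrange : ∀ y, g y ∈ ⨆ (ν : K) (_ : ν ≠ μ), f.eigenspace ν := by
    intro y
    have hy : y ∈ ⨆ ν, f.eigenspace ν := by rw [hd]; trivial
    refine Submodule.iSup_induction _ (motive := fun y => g y ∈ _) hy (fun ν v hv => ?_)
      (by rw [map_zero]; exact Submodule.zero_mem _) fun p q hp hq => by rw [map_add]; exact Submodule.add_mem _ hp hq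
    rw [Module.End.mem_eigenspace_iff] at hv
    rw [hg, hv, ← sub_smul]
    by_cases hν : ν = μ
    · rw [hν, sub_self, zero_smul]; exact Submodule.zero_mem _
    · exact Submodule.mem_iSup_of_mem ν (Submodule.mem_iSup_of_mem hν
        (Submodule.smul_mem _ _ (Module.End.mem_eigenspace_iff.2 hv)))
  intro N
  induction N with
  | zero => intro y hy; rw [pow_one] at hy; exact sub_eq_zero.1 hy
  | succ N ih =>
    intro y hy
    refine ih y ?_
    have h1 : g ((g ^ (N + 1)) y) = 0 := by rw [← Module.End.mul_apply, ← pow_succ']; exact hy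
    have h2 : (g ^ (N + 1)) y ∈ ⨆ (ν : K) (_ : ν ≠ μ), f.eigenspace ν := by
      rw [pow_succ', Module.End.mul_apply]; exact hrange _
    have h3 : (g ^ (N + 1)) y ∈ f.eigenspace μ := by
      rw [Module.End.mem_eigenspace_iff, ← sub_eq_zero, ← hg]; exact h1
    exact Submodule.disjoint_def.1 (Module.End.eigenspaces_iSupIndep f μ) _ h3 h2

/-- an endomorphism killed by iterated commutators with a diagonalisable one commutes with it -/
theorem commute_of_adN {ι : Type v} [Fintype ι] [DecidableEq ι] {S Y : Matrix ι ι K}
    (hd : ⨆ μ, Module.End.eigenspace (Matrix.toLin' S) μ = ⊤) {N : ℕ} (h : adN (N + 1) S Y = 0) :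
    Commute S Y := by
  let f : Module.End K (ι → K) := Matrix.toLin' S
  have key : ∀ (μ : K) (x : ι → K), f x = μ • x → ∀ n, Matrix.toLin' (adN n S Y) x =
      ((f - algebraMap K (Module.End K (ι → K)) μ) ^ n) (Matrix.toLin' Y x) := by
    intro μ x hx n
    induction n with
    | zero => simp [adN]
    | succ n ih =>
      rw [adN, Function.iterate_succ_apply', ← adN, map_sub, LinearMap.sub_apply, Matrix.toLin'_mul,
        Matrix.toLin'_mul, LinearMap.comp_apply, LinearMap.comp_apply, show Matrix.toLin' S x = f x from rfl, hx,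
        map_smul, ih, pow_succ', Module.End.mul_apply]
      rfl
  have hfin : f ∘ₗ Matrix.toLin' Y = Matrix.toLin' Y ∘ₗ f := by
    refine LinearMap.ext fun x => ?_
    have hx : x ∈ ⨆ μ, f.eigenspace μ := by rw [show ⨆ μ, f.eigenspace μ = ⊤ from hd]; trivial
    refine Submodule.iSup_induction _ (motive := fun x => (f ∘ₗ Matrix.toLin' Y) x = (Matrix.toLin' Y ∘ₗ f) x) hx
      (fun μ v hv => ?_) (by simp) fun p q hp hq => by rw [map_add, map_add, hp, hq]
    rw [Module.End.mem_eigenspace_iff] at hv
    rw [LinearMap.comp_apply, LinearMap.comp_apply, hv, map_smul]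
    refine eigen_of_pow hd μ N _ ?_
    rw [← key μ v hv, h, map_zero, LinearMap.zero_apply]
  exact Matrix.toLin'.injective (by rw [Matrix.toLin'_mul, Matrix.toLin'_mul]; exact hfin)

end Eigen

section BaseChange

variable {k : Type u} [Field k] {A : Type u} [CommRing A] [HopfAlgebra k A] {ι : Type v}
  [Fintype ι] [DecidableEq ι] (K : Type u) [Field K] [Algebra k K]

/-- the coefficient matrix over an extension -/
def bcMat (a : Matrix ι ι A) : Matrix ι ι (K ⊗[k] A) := a.map fun x => (1 : K) ⊗ₜ[k] x

/-- a functional over an extension -/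
def extK (φ : A →ₗ[k] k) : K ⊗[k] A →ₗ[K] K :=
  (TensorProduct.AlgebraTensorModule.rid k K K).toLinearMap ∘ₗ φ.baseChange K

theorem extK_tmul (φ : A →ₗ[k] k) (c : K) (x : A) : extK K φ (c ⊗ₜ[k] x) = φ x • c := by
  simp [extK]

theorem bcMat_gens {a : Matrix ι ι A} (h : Gens k a) : Gens K (bcMat (k := k) K a) where
  comul i j := by
    simp only [bcMat, Matrix.map_apply, TensorProduct.comul_tmul, CommSemiring.comul_apply, h.comul, tmul_sum,
      map_sum]
    simp
  counit i j := by
    simp only [bcMat, Matrix.map_apply, TensorProduct.counit_tmul, CommSemiring.counit_apply, h.counit]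
    by_cases hij : i = j <;> simp [Matrix.one_apply, hij]
  gen := by
    rw [eq_top_iff]
    rintro z -
    induction z with
    | zero => exact Subalgebra.zero_mem _
    | add p q hp hq => exact Subalgebra.add_mem _ hp hq
    | tmul c x =>
      rw [show c ⊗ₜ[k] x = c • ((1 : K) ⊗ₜ[k] x) by simp [TensorProduct.smul_tmul']]
      refine Subalgebra.smul_mem _ ?_ c
      have hx : x ∈ Algebra.adjoin k (Set.range fun p : ι × ι => a p.1 p.2) := by rw [h.gen]; trivial
      induction hx using Algebra.adjoin_induction with
      | mem y hy =>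
        obtain ⟨⟨i, j⟩, rfl⟩ := hy
        exact Algebra.subset_adjoin ⟨(i, j), rfl⟩
      | algebraMap r =>
        rw [show (1 : K) ⊗ₜ[k] algebraMap k A r = algebraMap K (K ⊗[k] A) (algebraMap k K r) by
          simp [Algebra.algebraMap_eq_smul_one, TensorProduct.smul_tmul', Algebra.TensorProduct.one_def]]
        exact Subalgebra.algebraMap_mem _ _
      | add p q _ _ hp hq => rw [tmul_add]; exact Subalgebra.add_mem _ hp hq
      | mul p q _ _ hp hq =>
        rw [show (1 : K) ⊗ₜ[k] (p * q) = ((1 : K) ⊗ₜ[k] p) * ((1 : K) ⊗ₜ[k] q) by simp]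
        exact Subalgebra.mul_mem _ hp hq

variable (a : Matrix ι ι A)

theorem mat_extK (φ : A →ₗ[k] k) : mat (bcMat K a) (extK K φ) = (mat a φ).map (algebraMap k K) := by
  ext i j
  simp [mat_apply, bcMat, extK_tmul, Algebra.smul_def]

/-- matrices of functionals over an extension are combinations of rational ones; likewise for tangent vectors -/
theorem exists_decomp (w : K ⊗[k] A →ₗ[K] K) :
    ∃ (S : Finset (Module.Free.ChooseBasisIndex k K)) (f : Module.Free.ChooseBasisIndex k K → A →ₗ[k] k),
      (IsTangent K (K ⊗[k] A) w → ∀ l, IsTangent k A (f l)) ∧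
      mat (bcMat K a) w =
        ∑ l : S, Module.Free.chooseBasis k K l • (mat a (f l)).map (algebraMap k K) := by
  classical
  let b := Module.Free.chooseBasis k K
  let r : A →ₗ[k] K := w.restrictScalars k ∘ₗ (TensorProduct.mk k K A 1)
  refine ⟨Finset.univ.biUnion fun p : ι × ι => (b.repr (r (a p.1 p.2))).support, fun l => b.coord l ∘ₗ r,
    fun hw l x y => ?_, ?_⟩
  · have e := hw ((1 : K) ⊗ₜ[k] x) ((1 : K) ⊗ₜ[k] y)
    simp only [Algebra.TensorProduct.tmul_mul_tmul, one_mul, Bialgebra.counitAlgHom_apply,
      TensorProduct.counit_tmul, CommSemiring.counit_apply, Algebra.smul_def, mul_one] at e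
    show b.coord l (w ((1 : K) ⊗ₜ[k] (x * y))) = _
    rw [e, ← Algebra.smul_def, ← Algebra.smul_def, map_add, map_smul, map_smul]
    rfl
  · ext i j
    rw [Matrix.sum_apply]
    show r (a i j) = _
    conv_lhs => rw [← b.linearCombination_repr (r (a i j))]
    have hsub : (b.repr (r (a i j))).support ⊆
        Finset.univ.biUnion fun p : ι × ι => (b.repr (r (a p.1 p.2))).support := fun x hx =>
      Finset.mem_biUnion.2 ⟨(i, j), Finset.mem_univ _, hx⟩
    rw [Finsupp.linearCombination_apply, Finsupp.sum_of_support_subset _ hsub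
      (fun i c => c • b i) (fun _ _ => zero_smul _ _), ← Finset.sum_coe_sort]
    refine Finset.sum_congr rfl fun l _ => ?_
    simp [mat_apply, b, Algebra.smul_def, mul_comm]

/-- a tangent vector is diagonalisable as soon as its matrix is -/
theorem isDiagTangent_of_mat {a : Matrix ι ι A} (h : Gens k a) {s : A →ₗ[k] k} (hs : IsTangent k A s)
    (hd : ⨆ μ : AlgebraicClosure k,
      Module.End.eigenspace (Matrix.toLin' ((mat a s).map (algebraMap k (AlgebraicClosure k)))) μ = ⊤) :
    IsDiagTangent s := by
  let L := AlgebraicClosure k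
  let D : Module.End L (L ⊗[k] A) := (fAct A s).baseChange L
  let W : Submodule L (L ⊗[k] A) := ⨆ μ : L, D.eigenspace μ
  have hD : ∀ x y, D (x * y) = x * D y + y * D x := by
    intro x y
    induction x with
    | zero => simp
    | add p q hp hq => simp only [map_add, add_mul, mul_add, hp, hq]; abel
    | tmul c p =>
      induction y with
      | zero => simp
      | add p' q' hp hq => simp only [map_add, add_mul, mul_add, hp, hq]; abel
      | tmul c' q =>
        simp only [D, Algebra.TensorProduct.tmul_mul_tmul, LinearMap.baseChange_tmul, fAct_leibniz hs, smul_eq_mul,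
          tmul_add]
        rw [mul_comm c' c]
  have hone : (1 : L ⊗[k] A) ∈ W := by
    refine Submodule.mem_iSup_of_mem 0 (Module.End.mem_eigenspace_iff.2 ?_)
    have := hD 1 1
    simpa using this
  have hmul : ∀ x ∈ W, ∀ y ∈ W, x * y ∈ W := by
    intro x hx y hy
    refine Submodule.iSup_induction _ (motive := fun x => x * y ∈ W) hx (fun μ v hv => ?_)
      (by rw [zero_mul]; exact W.zero_mem) fun p q hp hq => by rw [add_mul]; exact W.add_mem hp hq
    refine Submodule.iSup_induction _ (motive := fun y => v * y ∈ W) hy (fun ν w hw => ?_)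
      (by rw [mul_zero]; exact W.zero_mem) fun p q hp hq => by rw [mul_add]; exact W.add_mem hp hq
    rw [Module.End.mem_eigenspace_iff] at hv hw
    refine Submodule.mem_iSup_of_mem (μ + ν) (Module.End.mem_eigenspace_iff.2 ?_)
    rw [hD, hv, hw, mul_smul_comm, mul_smul_comm, mul_comm w v, add_comm μ ν, add_smul]
  have hgen : ∀ i j, bcMat L a i j ∈ W := by
    intro i j
    let φ : (ι → L) →ₗ[L] L ⊗[k] A := Fintype.linearCombination L (fun j => bcMat L a i j)
    suffices hall : ∀ u : ι → L, φ u ∈ W by
      have := hall (Pi.single j 1)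
      simpa [φ] using this
    intro u
    have hu : u ∈ ⨆ μ : L, Module.End.eigenspace (Matrix.toLin' ((mat a s).map (algebraMap k L))) μ := by
      rw [hd]; trivial
    refine Submodule.iSup_induction _ (motive := fun u => φ u ∈ W) hu (fun μ v hv => ?_)
      (by rw [map_zero]; exact W.zero_mem) fun p q hp hq => by rw [map_add]; exact W.add_mem hp hq
    rw [Module.End.mem_eigenspace_iff] at hv
    refine Submodule.mem_iSup_of_mem μ (Module.End.mem_eigenspace_iff.2 ?_)
    have e : D (φ v) = φ (Matrix.toLin' ((mat a s).map (algebraMap k L)) v) := by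
      simp only [φ, Fintype.linearCombination_apply, map_sum, map_smul, Matrix.toLin'_apply, Matrix.mulVec,
        dotProduct, Finset.sum_smul]
      rw [Finset.sum_comm]
      refine Finset.sum_congr rfl fun l _ => ?_
      simp only [D, bcMat, Matrix.map_apply, LinearMap.baseChange_tmul, fAct_gen h, tmul_sum, Finset.smul_sum,
        mat_apply]
      refine Finset.sum_congr rfl fun m _ => ?_
      rw [TensorProduct.tmul_smul, ← IsScalarTower.algebraMap_smul L (s (a m l)), smul_smul, mul_comm]
    rw [e, hv, map_smul]
  rw [IsDiagTangent, eq_top_iff]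
  intro z _
  let B : Subalgebra L (L ⊗[k] A) := W.toSubalgebra hone fun x y hx hy => hmul x hx y hy
  have hle : Algebra.adjoin L (Set.range fun p : ι × ι => bcMat L a p.1 p.2) ≤ B :=
    Algebra.adjoin_le (by rintro _ ⟨p, rfl⟩; exact hgen p.1 p.2)
  rw [(bcMat_gens L h).gen] at hle
  exact hle (Algebra.mem_top (R := L))

end BaseChange

end Groth.L24.TorusField
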