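import Groth.Agent.L24.TorusField.Matrix
import Groth.Agent.L01.PointJordan
import Mathlib.LinearAlgebra.Eigenspace.Triangularizable
import Mathlib.LinearAlgebra.Charpoly.Basic

/-!
# Semisimple parts of tangent vectors
-/

set_option autoImplicit false
set_option backward.isDefEq.respectTransparency false

universe u v

open TensorProduct WithConv

noncomputable section

namespace Groth.L24.TorusField

open Groth.L08 Groth.L08.AugGraded

variable {k : Type u} [Field k] {A : Type u} [CommRing A] [HopfAlgebra k A]

/-- functionals on a tensor square are separated by product functionals -/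
theorem eq_of_forall_tmul {x y : A ⊗[k] A}
    (h : ∀ φ ψ : A →ₗ[k] k, TensorProduct.lid k k (TensorProduct.map φ ψ x) = TensorProduct.lid k k (TensorProduct.map φ ψ y)) :
    x = y := by
  let b := Module.Free.chooseBasis k A
  refine (b.tensorProduct b).repr.injective (Finsupp.ext fun p => ?_)
  have e : ∀ z : A ⊗[k] A, (b.tensorProduct b).repr z p =
      TensorProduct.lid k k (TensorProduct.map (b.coord p.1) (b.coord p.2) z) := by
    intro z
    induction z with
    | zero => simp
    | add s t hs ht => simp only [map_add, Finsupp.add_apply, hs, ht]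
    | tmul s t =>
      rw [Module.Basis.tensorProduct_repr_tmul_apply, smul_eq_mul, TensorProduct.map_tmul, TensorProduct.lid_tmul,
        smul_eq_mul, Module.Basis.coord_apply, Module.Basis.coord_apply]
      ring
  rw [e, e, h]

variable [Algebra.FiniteType k A]

variable (k A) in
/-- the data of a finite generating subcomodule with a basis -/
structure GenData where
  W : Submodule k A
  hfin : Module.Finite k W
  hW : HopfRep.IsSubcomod (k := k) (A := A) W
  hgen : Algebra.adjoin k (W : Set A) = ⊤

theorem exists_genData : Nonempty (GenData k A) := by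
  obtain ⟨s, hs⟩ := Algebra.FiniteType.out (R := k) (A := A)
  obtain ⟨W, h1, h2, h3⟩ := Groth.L08.exists_finite_subcomod_of_finset (k := k) (A := A) (V := A) s
  exact ⟨⟨W, h1, h3, top_le_iff.1 (hs ▸ Algebra.adjoin_mono h2)⟩⟩

namespace GenData

variable (d : GenData k A)

/-- the index type -/
abbrev ι : Type u := Module.Free.ChooseBasisIndex k d.W

instance : Fintype d.ι := by haveI := d.hfin; infer_instance
instance : DecidableEq d.ι := Classical.decEq _

/-- the basis -/
def basis : Module.Basis d.ι k d.W := Module.Free.chooseBasis k d.W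

/-- an extended coordinate -/
def coord (i : d.ι) : A →ₗ[k] k := (LinearMap.exists_extend (d.basis.coord i)).choose

theorem coord_spec (i : d.ι) (w : d.W) : d.coord i w = d.basis.coord i w :=
  LinearMap.congr_fun (LinearMap.exists_extend (d.basis.coord i)).choose_spec w

/-- the coefficient matrix -/
def a : Matrix d.ι d.ι A := Matrix.of fun i j => cf (k := k) (A := A) (V := A) (d.coord i) (d.basis j)

/-- the restricted translation -/
def T (φ : A →ₗ[k] k) : Module.End k d.W := Groth.L01.PointJordan.T φ d.hW

theorem mat_eq (φ : A →ₗ[k] k) : mat d.a φ = LinearMap.toMatrix d.basis d.basis (d.T φ) := by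
  ext i j
  rw [mat_apply, LinearMap.toMatrix_apply]
  show φ (cf (k := k) (A := A) (V := A) (d.coord i) (d.basis j)) = _
  rw [Groth.L08.apply_cf]
  show d.coord i ((d.T φ (d.basis j) : d.W) : A) = _
  rw [coord_spec]; rfl

theorem T_mul (φ ψ : A →ₗ[k] k) : d.T (toConv φ * toConv ψ).ofConv = d.T φ * d.T ψ := by
  refine LinearMap.ext fun w => Subtype.ext ?_
  show fAct A (toConv φ * toConv ψ).ofConv (w : A) = fAct A φ (fAct A ψ w)
  rw [Groth.L08.fAct_mul]; rfl

theorem gens : Gens k d.a where
  comul i j := by
    refine eq_of_forall_tmul fun φ ψ => ?_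
    have e1 : TensorProduct.lid k k (TensorProduct.map φ ψ (Coalgebra.comul (R := k) (d.a i j))) =
        (toConv φ * toConv ψ).ofConv (d.a i j) := by
      show _ = (toConv φ * toConv ψ) (d.a i j)
      rw [LinearMap.convMul_apply]
      induction Coalgebra.comul (R := k) (d.a i j) with
      | zero => simp
      | add p q hp hq => simp only [map_add, hp, hq]
      | tmul p q => simp
    rw [e1]
    show mat d.a (toConv φ * toConv ψ).ofConv i j = _
    rw [mat_eq, T_mul, LinearMap.toMatrix_mul, ← mat_eq, ← mat_eq, Matrix.mul_apply]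
    simp [mat_apply, map_sum]
  counit i j := by
    show mat d.a (Coalgebra.counit (R := k)) i j = _
    rw [mat_eq, show d.T (Coalgebra.counit (R := k)) = 1 from
      LinearMap.ext fun w => Subtype.ext (LinearMap.congr_fun Groth.L08.fAct_counit (w : A)), LinearMap.toMatrix_one]
  gen := by
    rw [eq_top_iff, ← d.hgen]
    refine Algebra.adjoin_le fun x hx => ?_
    have hx' : x ∈ Submodule.span k (Set.range fun p : d.ι × d.ι => d.a p.1 p.2) := by
      refine (Subspace.forall_mem_dualAnnihilator_apply_eq_zero_iff _ _).1 fun φ hφ => ?_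
      rw [Submodule.mem_dualAnnihilator] at hφ
      have hT : d.T φ = 0 := (LinearMap.toMatrix d.basis d.basis).injective (by
        rw [← mat_eq, map_zero]; ext i j; exact hφ _ (Submodule.subset_span ⟨(i, j), rfl⟩))
      have e := congrArg (fun z : d.W => Bialgebra.counitAlgHom k A (z : A)) (LinearMap.congr_fun hT ⟨x, hx⟩)
      simp only [LinearMap.zero_apply, ZeroMemClass.coe_zero, map_zero] at e
      rw [← counit_fAct φ x]
      exact e
    exact (Submodule.span_le.2 fun _ hy => Algebra.subset_adjoin hy :
      _ ≤ Subalgebra.toSubmodule (Algebra.adjoin k (Set.range fun p : d.ι × d.ι => d.a p.1 p.2))) hx'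

theorem toLin'_mat (φ : A →ₗ[k] k) :
    Matrix.toLin' (mat d.a φ) = (d.basis.equivFun.toLinearMap ∘ₗ d.T φ) ∘ₗ d.basis.equivFun.symm.toLinearMap := by
  rw [mat_eq]
  refine LinearMap.ext fun x => ?_
  rw [Matrix.toLin'_apply]
  have := LinearMap.toMatrix_mulVec_repr d.basis d.basis (d.T φ) (d.basis.equivFun.symm x)
  simp only [← Module.Basis.equivFun_apply, LinearEquiv.apply_symm_apply] at this
  exact this

end GenData

section CharZero

open Groth.L01.PointJordan

variable [PerfectField k]

theorem ss_add (V₁ V₂ : Type*) [AddCommGroup V₁] [Module k V₁] [FiniteDimensional k V₁] [AddCommGroup V₂]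
    [Module k V₂] [FiniteDimensional k V₂] (α : Module.End k V₁) (β : Module.End k V₂) :
    ss (TensorProduct.map α (1 : Module.End k V₂) + TensorProduct.map (1 : Module.End k V₁) β) =
      TensorProduct.map (ss α) (1 : Module.End k V₂) + TensorProduct.map (1 : Module.End k V₁) (ss β) := by
  obtain ⟨h1, h2, h3⟩ := ss_spec α
  obtain ⟨g1, g2, g3⟩ := ss_spec β
  have hmul : ∀ (a b : Module.End k V₁) (c d : Module.End k V₂),
      TensorProduct.map a c * TensorProduct.map b d = TensorProduct.map (a * b) (c * d) :=
    fun a b c d => (TensorProduct.map_comp a c b d).symm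
  have hc : ∀ {a b : Module.End k V₁} {c d : Module.End k V₂}, Commute a b → Commute c d →
      Commute (TensorProduct.map a c) (TensorProduct.map b d) := fun h h' => by
    rw [Commute, SemiconjBy, hmul, hmul, h.eq, h'.eq]
  refine (eq_ss ?_ ?_ ?_).symm
  · exact Module.End.IsSemisimple.add_of_commute (hc (Commute.one_right _) (Commute.one_left _))
      (isSemisimple_map_left h1) (isSemisimple_map_right g1)
  · rw [show TensorProduct.map α (1 : Module.End k V₂) + TensorProduct.map (1 : Module.End k V₁) β -
        (TensorProduct.map (ss α) (1 : Module.End k V₂) + TensorProduct.map (1 : Module.End k V₁) (ss β)) =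
        TensorProduct.map (α - ss α) (1 : Module.End k V₂) + TensorProduct.map (1 : Module.End k V₁) (β - ss β) by
      refine TensorProduct.ext' fun x y => ?_
      simp [sub_tmul, tmul_sub]; abel]
    obtain ⟨n, hn⟩ := h2
    obtain ⟨m, hm⟩ := g2
    refine (hc (Commute.one_right _) (Commute.one_left _)).isNilpotent_add ⟨n, ?_⟩ ⟨m, ?_⟩
    · rw [TensorProduct.map_pow, hn, TensorProduct.map_zero_left]
    · rw [TensorProduct.map_pow, hm, TensorProduct.map_zero_right]
  · exact ((hc h3 (Commute.refl _)).add_right (hc (Commute.one_right _) (Commute.one_left _))).add_left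
      ((hc (Commute.one_left _) (Commute.one_right _)).add_right (hc (Commute.refl _) g3))

/-- the semisimple part of a tangent vector is a tangent vector -/
theorem isTangent_sF {w : A →ₗ[k] k} (hw : IsTangent k A w) : IsTangent k A (sF w) := by
  intro a b
  obtain ⟨W₁, f₁, m₁, s₁⟩ := Groth.L08.exists_finite_subcomod (k := k) (A := A) (V := A) a
  obtain ⟨W₂, f₂, m₂, s₂⟩ := Groth.L08.exists_finite_subcomod (k := k) (A := A) (V := A) b
  haveI := f₁; haveI := f₂
  let e₁ := Module.Free.chooseBasis k W₁
  let e₂ := Module.Free.chooseBasis k W₂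
  classical
  obtain ⟨W₃, f₃, m₃, s₃⟩ := Groth.L08.exists_finite_subcomod_of_finset (k := k) (A := A) (V := A)
    (Finset.univ.image fun p : _ × _ => (e₁ p.1 : A) * (e₂ p.2 : A))
  haveI := f₃
  let μ : W₁ ⊗[k] W₂ →ₗ[k] A := LinearMap.mul' k A ∘ₗ TensorProduct.map W₁.subtype W₂.subtype
  have hμ : ∀ z, μ z ∈ W₃ := by
    intro z
    have hz : z ∈ Submodule.span k (Set.range (e₁.tensorProduct e₂)) := by rw [Module.Basis.span_eq]; trivial
    refine (Submodule.span_le (p := W₃.comap μ)).2 ?_ hz
    rintro _ ⟨p, rfl⟩
    refine m₃ (Finset.mem_image.2 ⟨p, Finset.mem_univ _, ?_⟩)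
    simp [μ, Module.Basis.tensorProduct_apply']
  let μ' : W₁ ⊗[k] W₂ →ₗ[k] W₃ := μ.codRestrict W₃ hμ
  let α : Module.End k (W₁ ⊗[k] W₂) :=
    TensorProduct.map (T w s₁) (1 : Module.End k W₂) + TensorProduct.map (1 : Module.End k W₁) (T w s₂)
  have hint : μ' ∘ₗ α = T w s₃ ∘ₗ μ' := by
    refine TensorProduct.ext' fun x y => Subtype.ext ?_
    simp only [μ', μ, α, LinearMap.comp_apply, LinearMap.add_apply, TensorProduct.map_tmul, Module.End.one_apply,
      map_add, Submodule.coe_add, LinearMap.codRestrict_apply, T_coe, LinearMap.mul'_apply, Submodule.coe_subtype,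
      fAct_leibniz hw, smul_eq_mul]
    ring
  have h := ss_comm (X := W₁ ⊗[k] W₂) (Y := W₃) α (T w s₃) μ' hint
  erw [ss_add W₁ W₂ (T w s₁) (T w s₂)] at h
  have e := congrArg Subtype.val (LinearMap.congr_fun h ((⟨a, m₁⟩ : W₁) ⊗ₜ[k] (⟨b, m₂⟩ : W₂)))
  simp only [μ', μ, LinearMap.comp_apply, LinearMap.add_apply, TensorProduct.map_tmul, Module.End.one_apply,
    map_add, Submodule.coe_add, LinearMap.codRestrict_apply, LinearMap.mul'_apply, Submodule.coe_subtype] at e
  rw [← Sfun_eq w s₁ m₁, ← Sfun_eq w s₂ m₂] at e
  have hab : a * b ∈ W₃ := by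
    have := hμ ((⟨a, m₁⟩ : W₁) ⊗ₜ[k] (⟨b, m₂⟩ : W₂))
    simpa [μ] using this
  have e' : (ss (T w s₃) ⟨a * b, hab⟩ : A) = Sfun w (a * b) := (Sfun_eq w s₃ hab).symm
  rw [show (μ' ((⟨a, m₁⟩ : W₁) ⊗ₜ[k] (⟨b, m₂⟩ : W₂))) = (⟨a * b, hab⟩ : W₃) from Subtype.ext (by simp [μ', μ])] at e
  show Coalgebra.counit (R := k) (S w (a * b)) = _
  show Coalgebra.counit (R := k) (Sfun w (a * b)) = _
  rw [← e', ← e, map_add, Bialgebra.counit_mul, Bialgebra.counit_mul]
  show _ = Coalgebra.counit a * Coalgebra.counit (R := k) (Sfun w b) + Coalgebra.counit b * Coalgebra.counit (R := k) (Sfun w a)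
  ring

/-- the semisimple part acts as the semisimple part -/
theorem fAct_sF_mem {W : Submodule k A} [Module.Finite k W] (hW : HopfRep.IsSubcomod (k := k) (A := A) W)
    (φ : A →ₗ[k] k) : T (sF φ) hW = ss (T φ hW) := by
  refine LinearMap.ext fun x => Subtype.ext ?_
  rw [T_coe]
  refine sub_eq_zero.1 ((Module.forall_dual_apply_eq_zero_iff k _).1 fun f => ?_)
  rw [map_sub, sub_eq_zero, ← Groth.L08.apply_cf]
  classical
  let e := Module.Free.chooseBasis k W
  obtain ⟨W', f', m', s'⟩ := Groth.L08.exists_finite_subcomod_of_finset (k := k) (A := A) (V := A)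
    (Finset.univ.image fun i => cf (k := k) (A := A) (V := A) f (e i))
  haveI := f'
  let c : W →ₗ[k] A := cf (k := k) (A := A) (V := A) f ∘ₗ W.subtype
  have hc : ∀ z, c z ∈ W' := by
    intro z
    have hz : z ∈ Submodule.span k (Set.range e) := by rw [Module.Basis.span_eq]; trivial
    refine (Submodule.span_le (p := W'.comap c)).2 ?_ hz
    rintro _ ⟨i, rfl⟩
    exact m' (Finset.mem_image.2 ⟨i, Finset.mem_univ _, rfl⟩)
  have h := ss_comm (T φ hW) (T φ s') (c.codRestrict W' hc) (LinearMap.ext fun z => Subtype.ext (by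
    simp only [LinearMap.comp_apply, LinearMap.codRestrict_apply, T_coe, c, Submodule.coe_subtype]
    exact Groth.L08.fAct_comm_of_isComodHom (Groth.L08.isComodHom_cf f) φ (z : A)))
  have h' := congrArg Subtype.val (LinearMap.congr_fun h x)
  simp only [LinearMap.comp_apply, LinearMap.codRestrict_apply, c, Submodule.coe_subtype] at h'
  show Coalgebra.counit (R := k) (Sfun φ (cf (k := k) (A := A) (V := A) f (x : A))) = _
  rw [show Sfun φ (cf (k := k) (A := A) (V := A) f (x : A)) = _ from Sfun_eq φ s' (hc x)]
  show Coalgebra.counit (R := k) ((ss (T φ s') (c.codRestrict W' hc x) : W') : A) = _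
  rw [← h', Groth.L08.apply_cf, Groth.L08.fAct_counit]
  rfl

end CharZero

section Ad

variable {R : Type*} [Ring R]

/-- commuting parts do not matter for iterated commutators -/
theorem adN_eq {ι : Type v} [Fintype ι] [DecidableEq ι] {F : Type*} [CommRing F] {X Y : Matrix ι ι F} (N : ℕ) :
    adN N X Y = ((LinearMap.mulLeft F X - LinearMap.mulRight F X : Module.End F (Matrix ι ι F)) ^ N) Y := by
  induction N with
  | zero => rfl
  | succ N ih => rw [adN, Function.iterate_succ_apply', ← adN, ih, pow_succ', Module.End.mul_apply]; rfl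

end Ad

/-- a semisimple tangent vector attached to a tangent vector, functional by functional -/
theorem exists_semisimple_mat (d : GenData k A) {v : A →ₗ[k] k} (hv : IsTangent k A v) :
    ∃ s : A →ₗ[k] k, IsTangent k A s ∧ IsDiagTangent s ∧
      (⨆ μ : AlgebraicClosure k,
        Module.End.eigenspace (Matrix.toLin' ((mat d.a s).map (algebraMap k (AlgebraicClosure k)))) μ = ⊤) ∧
      ∀ φ : A →ₗ[k] k, Commute (mat d.a s) (mat d.a φ) →
        ∀ N : ℕ, 2 * Fintype.card d.ι + ringExpChar k ^ Fintype.card d.ι ≤ N → adN N (mat d.a v) (mat d.a φ) = 0 := by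
  classical
  let L := AlgebraicClosure k
  haveI := d.hfin
  obtain ⟨q, hq⟩ : ∃ q, q = ringExpChar k := ⟨_, rfl⟩
  haveI hE : ExpChar k q := by rw [hq]; infer_instance
  let Φ : Module.End k (Matrix d.ι d.ι k) := LinearMap.mulLeft k (mat d.a v) - LinearMap.mulRight k (mat d.a v)
  suffices h : ∃ s : A →ₗ[k] k, IsTangent k A s ∧
      (⨆ μ : L, Module.End.eigenspace (Matrix.toLin' ((mat d.a s).map (algebraMap k L))) μ = ⊤) ∧
      ∃ N₀ ≤ 2 * Fintype.card d.ι + q ^ Fintype.card d.ι,
        (∀ φ : A →ₗ[k] k, Commute (mat d.a s) (mat d.a φ) → (Φ ^ N₀) (mat d.a φ) = 0) by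
    obtain ⟨s, h1, h2, N₀, hN₀, h3⟩ := h
    refine ⟨s, h1, isDiagTangent_of_mat d.gens h1 h2, h2, fun φ hc N hN => ?_⟩
    have hle : N₀ ≤ N := by rw [← hq] at hN; omega
    rw [adN_eq, ← Nat.sub_add_cancel hle, pow_add, Module.End.mul_apply, h3 φ hc, map_zero]
  rcases hE with _ | ⟨hp⟩
  · -- characteristic zero
    haveI : PerfectField k := PerfectField.ofCharZero
    refine ⟨Groth.L01.PointJordan.sF v, isTangent_sF hv, ?_, 2 * Fintype.card d.ι, Nat.le_add_right _ _, ?_⟩
    · let f : Module.End L (d.ι → L) := Matrix.toLin' ((mat d.a (Groth.L01.PointJordan.sF v)).map (algebraMap k L))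
      have hTs : d.T (Groth.L01.PointJordan.sF v) = Groth.L01.PointJordan.ss (d.T v) := fAct_sF_mem d.hW v
      have hsq : Squarefree (minpoly k (d.T (Groth.L01.PointJordan.sF v))) := by
        rw [hTs]; exact (Groth.L01.PointJordan.ss_spec _).1.minpoly_squarefree
      let P := minpoly k (d.T (Groth.L01.PointJordan.sF v))
      have hsep : (P.map (algebraMap k L)).Separable :=
        (PerfectField.separable_iff_squarefree.2 hsq).map
      have hann : Polynomial.aeval f (P.map (algebraMap k L)) = 0 := by
        have e1 : Polynomial.aeval (mat d.a (Groth.L01.PointJordan.sF v)) P = 0 := by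
          rw [d.mat_eq]
          show Polynomial.aeval (LinearMap.toMatrixAlgEquiv d.basis (d.T _)) P = 0
          simp only [P]
          rw [Polynomial.aeval_algHom_apply]
          exact (congrArg (LinearMap.toMatrixAlgEquiv d.basis) (minpoly.aeval k _)).trans
            (map_zero (LinearMap.toMatrixAlgEquiv d.basis))
        have e2 := congrArg (AlgHom.mapMatrix (IsScalarTower.toAlgHom k k L)) e1
        rw [← Polynomial.aeval_algHom_apply, map_zero] at e2
        have e3 : Polynomial.aeval ((mat d.a (Groth.L01.PointJordan.sF v)).map (algebraMap k L))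
            (P.map (algebraMap k L)) = 0 := by
          rw [Polynomial.aeval_map_algebraMap]
          exact e2
        show Polynomial.aeval (Matrix.toLinAlgEquiv' ((mat d.a (Groth.L01.PointJordan.sF v)).map (algebraMap k L)))
          (P.map (algebraMap k L)) = 0
        rw [Polynomial.aeval_algHom_apply, e3, map_zero]
      have hss : f.IsSemisimple := Module.End.isSemisimple_of_squarefree_aeval_eq_zero hsep.squarefree hann
      exact hss.iSup_maxGenEigenspace_eq_top_iff.1 (Module.End.iSup_maxGenEigenspace_eq_top f)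
    · intro φ hc
      obtain ⟨h1, ⟨n, hn⟩, h3⟩ := Groth.L01.PointJordan.ss_spec (d.T v)
      let S := mat d.a (Groth.L01.PointJordan.sF v)
      let N := mat d.a v - S
      have hS : S = LinearMap.toMatrixAlgEquiv d.basis (Groth.L01.PointJordan.ss (d.T v)) := by
        show mat d.a _ = _
        rw [d.mat_eq, show d.T (Groth.L01.PointJordan.sF v) = _ from fAct_sF_mem d.hW v]; rfl
      have hv' : mat d.a v = LinearMap.toMatrixAlgEquiv d.basis (d.T v) := d.mat_eq v
      have hNn : N ^ Fintype.card d.ι = 0 := by
        have hnil : IsNilpotent (d.T v - Groth.L01.PointJordan.ss (d.T v)) := ⟨n, hn⟩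
        have := LinearMap.aeval_self_charpoly (d.T v - Groth.L01.PointJordan.ss (d.T v))
        rw [hnil.charpoly_eq_X_pow_finrank, map_pow, Polynomial.aeval_X] at this
        rw [Module.finrank_eq_card_basis d.basis] at this
        show (mat d.a v - S) ^ _ = 0
        rw [hv', hS, ← map_sub, ← map_pow, this, map_zero]
      have hSN : Commute S N := by
        show Commute S (mat d.a v - S)
        rw [hv', hS]
        exact ((h3.map (LinearMap.toMatrixAlgEquiv d.basis)).sub_right (Commute.refl _))
      -- iterates stay among matrices commuting with `S`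
      let ΨN : Module.End k (Matrix d.ι d.ι k) := LinearMap.mulLeft k N - LinearMap.mulRight k N
      have hit : ∀ m, (Φ ^ m) (mat d.a φ) = (ΨN ^ m) (mat d.a φ) ∧ Commute S ((ΨN ^ m) (mat d.a φ)) := by
        intro m
        induction m with
        | zero => exact ⟨rfl, hc⟩
        | succ m ih =>
          rw [pow_succ', pow_succ', Module.End.mul_apply, Module.End.mul_apply, ih.1]
          refine ⟨?_, (hSN.mul_right ih.2).sub_right (ih.2.mul_right hSN)⟩
          show mat d.a v * _ - _ * mat d.a v = N * _ - _ * N
          simp only [N, sub_mul, mul_sub, ih.2.eq]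
          abel
      rw [(hit _).1]
      have hnilΨ : ΨN ^ (2 * Fintype.card d.ι) = 0 := by
        have e1 : (LinearMap.mulLeft k N) ^ Fintype.card d.ι = 0 := by
          rw [LinearMap.pow_mulLeft, hNn, LinearMap.mulLeft_zero_eq_zero]
        have e2 : (- (LinearMap.mulRight k N : Module.End k (Matrix d.ι d.ι k))) ^ Fintype.card d.ι = 0 := by
          rw [show (- (LinearMap.mulRight k N : Module.End k (Matrix d.ι d.ι k))) = (-1 : k) • LinearMap.mulRight k N from
            (neg_one_smul k _).symm, smul_pow]
          rw [LinearMap.pow_mulRight, hNn, LinearMap.mulRight_zero_eq_zero, smul_zero]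
        show (LinearMap.mulLeft k N - LinearMap.mulRight k N) ^ _ = 0
        rw [sub_eq_add_neg]
        refine ((LinearMap.commute_mulLeft_right N N).neg_right).add_pow_eq_zero_of_add_le_succ_of_pow_eq_zero e1 e2 ?_
        omega
      rw [hnilΨ, LinearMap.zero_apply]
  · -- positive characteristic
    haveI : Fact q.Prime := ⟨hp⟩
    obtain ⟨e, he⟩ : ∃ e, e = Fintype.card d.ι := ⟨_, rfl⟩
    let Q := q ^ e
    let s : A →ₗ[k] k := ((toConv v) ^ Q).ofConv
    have hpow : ∀ n : ℕ, mat d.a ((toConv v) ^ n).ofConv = mat d.a v ^ n := by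
      intro n
      induction n with
      | zero => rw [pow_zero, pow_zero]; ext i j; simp [mat_apply, d.gens.counit, Matrix.one_apply]
      | succ n ih =>
        rw [pow_succ (mat d.a v), ← ih, ← mat_mul d.gens, pow_succ]
    refine ⟨s, Groth.L01.Unip.isTangent_pow q hv e, ?_, Q, (by rw [← he]; exact Nat.le_add_left _ _), fun φ hc => ?_⟩
    · haveI : CharP L q := charP_of_injective_algebraMap (algebraMap k L).injective q
      let g : Module.End L (d.ι → L) := Matrix.toLin' ((mat d.a v).map (algebraMap k L))
      have hg : Matrix.toLin' ((mat d.a s).map (algebraMap k L)) = g ^ Q := by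
        show Matrix.toLin' ((mat d.a ((toConv v) ^ Q).ofConv).map (algebraMap k L)) = _
        rw [hpow, Matrix.map_pow]
        exact map_pow (Matrix.toLinAlgEquiv' (R := L) (n := d.ι)) _ Q
      rw [hg, eq_top_iff]
      intro x _
      have hx : x ∈ ⨆ μ, g.maxGenEigenspace μ := by rw [Module.End.iSup_maxGenEigenspace_eq_top]; trivial
      refine Submodule.iSup_induction _ (motive := fun x => x ∈ _) hx (fun μ y hy => ?_) (Submodule.zero_mem _)
        fun p p' hp hp' => Submodule.add_mem _ hp hp'
      refine Submodule.mem_iSup_of_mem (μ ^ Q) (Module.End.mem_eigenspace_iff.2 (sub_eq_zero.1 ?_))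
      rw [Module.End.maxGenEigenspace_eq_genEigenspace_finrank, Module.End.mem_genEigenspace_nat,
        LinearMap.mem_ker] at hy
      have hle : Module.finrank L (d.ι → L) ≤ Q := by
        rw [Module.finrank_fintype_fun_eq_card, ← he]; exact (Nat.lt_pow_self hp.one_lt).le
      haveI : CharP (Module.End L (d.ι → L)) q ∨ Subsingleton (Module.End L (d.ι → L)) := by
        rcases subsingleton_or_nontrivial (Module.End L (d.ι → L)) with h | h
        · exact Or.inr h
        · exact Or.inl (charP_of_injective_algebraMap (algebraMap L _).injective q)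
      rcases this with hcp | hsub
      · haveI := hcp
        have e1 : (g - algebraMap L _ μ) ^ Q = g ^ Q - algebraMap L _ (μ ^ Q) := by
          rw [map_pow]
          exact sub_pow_char_pow_of_commute q e (Algebra.commutes μ g).symm
        show (g ^ Q - algebraMap L (Module.End L (d.ι → L)) (μ ^ Q)) y = 0
        rw [← e1, ← Nat.sub_add_cancel hle, pow_add, Module.End.mul_apply, ← Algebra.algebraMap_eq_smul_one] at *
        rw [hy, map_zero]
      · rw [Subsingleton.elim (g ^ Q) 0]
        rw [show y = (1 : Module.End L (d.ι → L)) y from rfl, Subsingleton.elim (1 : Module.End L (d.ι → L)) 0]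
        simp
    · rcases isEmpty_or_nonempty d.ι with hι | hι
      · exact Subsingleton.elim _ _
      haveI : Nontrivial (Module.End k (Matrix d.ι d.ι k)) := inferInstance
      haveI : CharP (Module.End k (Matrix d.ι d.ι k)) q :=
        charP_of_injective_algebraMap (algebraMap k _).injective q
      show ((LinearMap.mulLeft k (mat d.a v) - LinearMap.mulRight k (mat d.a v)) ^ Q) (mat d.a φ) = 0
      rw [sub_pow_char_pow_of_commute q e (LinearMap.commute_mulLeft_right _ _), LinearMap.pow_mulLeft,
        LinearMap.pow_mulRight, LinearMap.sub_apply, LinearMap.mulLeft_apply, LinearMap.mulRight_apply, ← hpow,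
        sub_eq_zero]
      exact hc

/-- a semisimple tangent vector attached to a tangent vector -/
theorem exists_semisimple (d : GenData k A) {v : A →ₗ[k] k} (hv : IsTangent k A v) :
    ∃ s : A →ₗ[k] k, IsTangent k A s ∧ IsDiagTangent s ∧
      ((∀ φ : A →ₗ[k] k, Commute (mat d.a s) (mat d.a φ)) →
        ∀ (φ : A →ₗ[k] k) (N : ℕ), 2 * Fintype.card d.ι + ringExpChar k ^ Fintype.card d.ι ≤ N →
          adN N (mat d.a v) (mat d.a φ) = 0) := by
  obtain ⟨s, h1, h2, -, h3⟩ := exists_semisimple_mat d hv
  exact ⟨s, h1, h2, fun hc φ => h3 φ (hc φ)⟩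

end Groth.L24.TorusField
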